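import Mathlib

/-!
# A subobject of a group object stable under the operations is a subgroup object
-/

set_option autoImplicit false

namespace Groth.Agent.Lib.Helper28.SubGrp

open CategoryTheory MonoidalCategory CartesianMonoidalCategory MonObj GrpObj

variable {C : Type*} [Category C] [CartesianMonoidalCategory C]

section Crit

variable {G H : C} [GrpObj G] (i : H ⟶ G)
  (m : H ⊗ H ⟶ H) (hm : m ≫ i = (fst H H ≫ i) * (snd H H ≫ i))

include hm in
theorem lift_comp_mul {T : C} (a b : T ⟶ H) : lift a b ≫ m ≫ i = (a ≫ i) * (b ≫ i) := by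
  rw [hm, MonObj.comp_mul, lift_fst_assoc, lift_snd_assoc]

theorem whiskerRight_eq_lift {X Y : C} (f : X ⟶ Y) (Z : C) :
    f ▷ Z = lift (fst X Z ≫ f) (snd X Z) := by
  ext <;> simp

theorem whiskerLeft_eq_lift (X : C) {Y Z : C} (f : Y ⟶ Z) :
    X ◁ f = lift (fst X Y) (snd X Y ≫ f) := by
  ext <;> simp

theorem tensorHom_eq_lift {X Y X' Y' : C} (f : X ⟶ Y) (g : X' ⟶ Y') :
    f ⊗ₘ g = lift (fst X X' ≫ f) (snd X X' ≫ g) := by
  ext <;> simp

/-- **Subgroup criterion.** -/
theorem exists_grpObj_of_factor [Mono i]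
    (m : H ⊗ H ⟶ H) (hm : m ≫ i = (fst H H ≫ i) * (snd H H ≫ i))
    (e : 𝟙_ C ⟶ H) (he : e ≫ i = 1)
    (v : H ⟶ H) (hv : v ≫ i = i⁻¹) : ∃ _ : GrpObj H, IsMonHom i := by
  have L := @lift_comp_mul C _ _ G H _ i m hm
  let inst : GrpObj H :=
    { one := e
      mul := m
      one_mul := by
        rw [← cancel_mono i, Category.assoc, whiskerRight_eq_lift, L, Category.assoc, he,
          MonObj.comp_one, _root_.one_mul, leftUnitor_hom]
      mul_one := by
        rw [← cancel_mono i, Category.assoc, whiskerLeft_eq_lift, L, Category.assoc, he,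
          MonObj.comp_one, _root_.mul_one, rightUnitor_hom]
      mul_assoc := by
        rw [← cancel_mono i]
        simp only [Category.assoc, whiskerRight_eq_lift, whiskerLeft_eq_lift, comp_lift_assoc,
          hm, MonObj.comp_mul, lift_fst_assoc, lift_snd_assoc, associator_hom_fst_assoc,
          associator_hom_snd_fst_assoc, associator_hom_snd_snd_assoc]
        rw [_root_.mul_assoc]
      inv := v
      left_inv := by
        rw [← cancel_mono i, Category.assoc, L, hv, Category.id_comp, inv_mul_cancel,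
          Category.assoc, he, MonObj.comp_one]
      right_inv := by
        rw [← cancel_mono i, Category.assoc, L, hv, Category.id_comp, mul_inv_cancel,
          Category.assoc, he, MonObj.comp_one] }
  refine ⟨inst, ⟨?_, ?_⟩⟩
  · show e ≫ i = η[G]
    rw [he, MonObj.one_eq_one]
  · show m ≫ i = (i ⊗ₘ i) ≫ μ[G]
    rw [hm, tensorHom_eq_lift, Hom.mul_def]

end Crit

end Groth.Agent.Lib.Helper28.SubGrp
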