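import Mathlib
import Groth.Agent.S4805

/-!
# Descent of factorisations through a finitely presented closed immersion along a limit
-/

set_option autoImplicit false
universe u

namespace Groth.Agent.Lib.Helper28.SubGrp

open CategoryTheory CategoryTheory.Limits AlgebraicGeometry

section General

variable {C : Type*} [Category C] {D' : Type*} [Category D']

/-- factorisation transports along a natural isomorphism -/
theorem factor_of_iso {F F' : C ⥤ D'} (α : F ≅ F') {T G H : C} (φ : T ⟶ G) (ι : H ⟶ G)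
    (h : ∃ k, k ≫ F.map ι = F.map φ) : ∃ k, k ≫ F'.map ι = F'.map φ := by
  obtain ⟨k, hk⟩ := h
  refine ⟨α.inv.app T ≫ k ≫ α.hom.app H, ?_⟩
  rw [Category.assoc, Category.assoc, ← α.hom.naturality, reassoc_of% hk, α.hom.naturality,
    Iso.inv_hom_id_app_assoc]

theorem factor_comp {F : C ⥤ D'} {E : Type*} [Category E] (K : D' ⥤ E) {T G H : C} (φ : T ⟶ G)
    (ι : H ⟶ G) (h : ∃ k, k ≫ F.map ι = F.map φ) :
    ∃ k, k ≫ (F ⋙ K).map ι = (F ⋙ K).map φ := by
  obtain ⟨k, hk⟩ := h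
  refine ⟨K.map k, ?_⟩
  rw [Functor.comp_map, Functor.comp_map, ← K.map_comp, hk]

end General

section OverPb

variable {S S' : Scheme.{u}} (g : S' ⟶ S) {T₀ G₀ H₀ : Over S} (φ₀ : T₀ ⟶ G₀) (ι₀ : H₀ ⟶ G₀)

/-- factorisation after base change makes the base change of the pullback projection an iso -/
theorem isIso_of_factor [Mono ι₀.left]
    (h : ∃ k, k ≫ (Over.pullback g).map ι₀ = (Over.pullback g).map φ₀) :
    IsIso (pullback.snd (pullback.fst φ₀.left ι₀.left) (pullback.fst T₀.hom g)) := by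
  obtain ⟨k, hk⟩ := h
  have hk' := congrArg CommaMorphism.left hk
  have w₁ : pullback.fst T₀.hom g ≫ φ₀.left = (k.left ≫ pullback.fst H₀.hom g) ≫ ι₀.left := by
    have h1 := congrArg (fun m => m ≫ pullback.fst G₀.hom g) hk'
    simp only [Over.comp_left, Over.pullback_map_left, Category.assoc, pullback.lift_fst] at h1
    rw [Category.assoc]
    exact h1.symm
  let u : pullback T₀.hom g ⟶ pullback φ₀.left ι₀.left :=
    pullback.lift (pullback.fst T₀.hom g) (k.left ≫ pullback.fst H₀.hom g) w₁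
  let s : pullback T₀.hom g ⟶
      pullback (pullback.fst φ₀.left ι₀.left) (pullback.fst T₀.hom g) :=
    pullback.lift u (𝟙 _) (by
      rw [Category.id_comp]
      exact pullback.lift_fst _ _ _)
  have hs : s ≫ pullback.snd (pullback.fst φ₀.left ι₀.left) (pullback.fst T₀.hom g) = 𝟙 _ :=
    pullback.lift_snd _ _ _
  have : IsSplitEpi (pullback.snd (pullback.fst φ₀.left ι₀.left) (pullback.fst T₀.hom g)) :=
    IsSplitEpi.mk' ⟨s, hs⟩
  exact isIso_of_mono_of_isSplitEpi _

/-- an iso base change of the pullback projection gives a factorisation -/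
theorem factor_of_isIso {Xj Yj : Scheme.{u}} (fj : Xj ⟶ Yj) (gj : Yj ⟶ S') (pY : Yj ⟶ T₀.left)
    (pX : Xj ⟶ pullback φ₀.left ι₀.left)
    (hY : IsPullback pY gj T₀.hom g) (hX : IsPullback pX fj (pullback.fst φ₀.left ι₀.left) pY)
    [IsIso fj] :
    ∃ k, k ≫ (Over.pullback g).map ι₀ = (Over.pullback g).map φ₀ := by
  let e : Yj ≅ pullback T₀.hom g := hY.isoPullback
  have he₁ : e.hom ≫ pullback.fst T₀.hom g = pY := hY.isoPullback_hom_fst
  have he₂ : e.hom ≫ pullback.snd T₀.hom g = gj := hY.isoPullback_hom_snd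
  have he₁' : e.inv ≫ pY = pullback.fst T₀.hom g := by rw [← he₁, Iso.inv_hom_id_assoc]
  have he₂' : e.inv ≫ gj = pullback.snd T₀.hom g := by rw [← he₂, Iso.inv_hom_id_assoc]
  let q : pullback T₀.hom g ⟶ H₀.left :=
    e.inv ≫ inv fj ≫ pX ≫ pullback.snd φ₀.left ι₀.left
  have hq : q ≫ ι₀.left = pullback.fst T₀.hom g ≫ φ₀.left := by
    simp only [q, Category.assoc]
    rw [← pullback.condition, reassoc_of% hX.w, IsIso.inv_hom_id_assoc, reassoc_of% he₁']
  have w : q ≫ H₀.hom = pullback.snd T₀.hom g ≫ g := by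
    rw [← Over.w ι₀, reassoc_of% hq, Over.w φ₀, pullback.condition]
  let kl : pullback T₀.hom g ⟶ pullback H₀.hom g := pullback.lift q (pullback.snd T₀.hom g) w
  refine ⟨Over.homMk kl (pullback.lift_snd _ _ _), ?_⟩
  ext
  simp only [Over.comp_left, Over.homMk_left, Over.pullback_map_left]
  apply pullback.hom_ext
  · simp only [Category.assoc, pullback.lift_fst, kl, pullback.lift_fst_assoc]
    exact hq
  · simp only [Category.assoc, pullback.lift_snd, kl]

end OverPb

theorem factor_congr {S S' : Scheme.{u}} {g g' : S' ⟶ S} (e : g = g') {T₀ G₀ H₀ : Over S}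
    (φ₀ : T₀ ⟶ G₀) (ι₀ : H₀ ⟶ G₀)
    (h : ∃ k, k ≫ (Over.pullback g).map ι₀ = (Over.pullback g).map φ₀) :
    ∃ k, k ≫ (Over.pullback g').map ι₀ = (Over.pullback g').map φ₀ := by
  subst e
  exact h

section Lim

variable {I : Type u} [SmallCategory I] [IsCofiltered I]
  (D : I ⥤ Scheme.{u}) (c : Limits.Cone D) (hc : Limits.IsLimit c)
  [∀ (i j : I) (a : i ⟶ j), IsAffineHom (D.map a)] (i₀ : I) [CompactSpace (D.obj i₀)]
  {T₀ G₀ H₀ : Over (D.obj i₀)} (φ₀ : T₀ ⟶ G₀) (ι₀ : H₀ ⟶ G₀)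

/-- the property of factoring at the stage `a` -/
def FactorsAt {i : I} (a : i ⟶ i₀) : Prop :=
  ∃ k, k ≫ (Over.pullback (D.map a)).map ι₀ = (Over.pullback (D.map a)).map φ₀

theorem FactorsAt.comp {i j : I} {a : i ⟶ i₀} (h : FactorsAt D i₀ φ₀ ι₀ a) (b : j ⟶ i) :
    FactorsAt D i₀ φ₀ ι₀ (b ≫ a) := by
  unfold FactorsAt
  exact factor_congr (D.map_comp b a).symm φ₀ ι₀
    (factor_of_iso (Over.pullbackComp (D.map b) (D.map a)).symm φ₀ ι₀
      (factor_comp (Over.pullback (D.map b)) φ₀ ι₀ h))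

include hc in
theorem exists_factorsAt [IsClosedImmersion ι₀.left] [LocallyOfFinitePresentation ι₀.left]
    [LocallyOfFinitePresentation T₀.hom] [QuasiCompact T₀.hom] [QuasiSeparated T₀.hom]
    (h : ∃ k, k ≫ (Over.pullback (c.π.app i₀)).map ι₀ = (Over.pullback (c.π.app i₀)).map φ₀) :
    ∃ (i : I) (a : i ⟶ i₀), FactorsAt D i₀ φ₀ ι₀ a := by
  have := isIso_of_factor (c.π.app i₀) φ₀ ι₀ h
  obtain ⟨j, a, Xj, Yj, fj, gj, pY, pX, hY, hX, hiso⟩ :=
    Groth.Agent.S4805.result D c hc i₀ (pullback.fst φ₀.left ι₀.left) T₀.hom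
      (pullback.snd (pullback.fst φ₀.left ι₀.left) (pullback.fst T₀.hom (c.π.app i₀)))
      (pullback.snd T₀.hom (c.π.app i₀)) (pullback.fst T₀.hom (c.π.app i₀))
      (pullback.fst (pullback.fst φ₀.left ι₀.left) (pullback.fst T₀.hom (c.π.app i₀)))
      (IsPullback.of_hasPullback _ _) (IsPullback.of_hasPullback _ _)
  exact ⟨j, a, factor_of_isIso (D.map a) φ₀ ι₀ fj gj pY pX hY hX⟩

end Lim

end Groth.Agent.Lib.Helper28.SubGrp
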