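import Mathlib
import Groth.Agent.Lib.Helper28.SubGrp.Descend

/-!
# More descent along limits: factorisations through finitely presented monomorphisms,
equality of morphisms, monomorphisms
-/

set_option autoImplicit false
universe u

namespace Groth.Agent.Lib.Helper28.SubGrp

open CategoryTheory CategoryTheory.Limits AlgebraicGeometry MonoidalCategory
  CartesianMonoidalCategory

section lfp

variable {X Y S : Scheme.{u}} (f : X ⟶ Y) (g : Y ⟶ S)

set_option backward.isDefEq.respectTransparency false in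
/-- If `f ≫ g` is locally of finite presentation and `g` is locally of finite type then `f` is
locally of finite presentation (copied from helper12's `FibreDominant`). -/
theorem locallyOfFinitePresentation_of_comp [LocallyOfFinitePresentation (f ≫ g)]
    [LocallyOfFiniteType g] : LocallyOfFinitePresentation f := by
  rw [HasRingHomProperty.iff_exists_appLE (P := @LocallyOfFinitePresentation)
    (RingHom.finitePresentation_stableUnderComposition.stableUnderCompositionWithLocalizationAway
      RingHom.finitePresentation_holdsForLocalizationAway).left]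
  intro x
  obtain ⟨_, ⟨T, hT, rfl⟩, hsT, -⟩ :=
    S.isBasis_affineOpens.exists_subset_of_mem_open (Set.mem_univ (g (f x))) isOpen_univ
  obtain ⟨_, ⟨V, hV, rfl⟩, hyV, hVT⟩ :=
    Y.isBasis_affineOpens.exists_subset_of_mem_open hsT (T.2.preimage g.continuous)
  obtain ⟨_, ⟨U, hU, rfl⟩, hxU, hUV⟩ :=
    X.isBasis_affineOpens.exists_subset_of_mem_open hyV (V.2.preimage f.continuous)
  have hUT : U ≤ (f ≫ g) ⁻¹ᵁ T := fun z hz => hVT (hUV hz)
  refine ⟨⟨V, hV⟩, ⟨U, hU⟩, hxU, hUV, ?_⟩
  have hc : g.appLE T V hVT ≫ f.appLE V U hUV = (f ≫ g).appLE T U hUT :=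
    Scheme.Hom.appLE_comp_appLE _ _ _ _ _ _ _
  have hfp : ((f ≫ g).appLE T U hUT).hom.FinitePresentation :=
    (f ≫ g).finitePresentation_appLE hT hU hUT
  have hft : (g.appLE T V hVT).hom.FiniteType := g.finiteType_appLE hT hV hVT
  rw [← hc, CommRingCat.hom_comp] at hfp
  exact RingHom.FinitePresentation.of_comp_finiteType (g.appLE T V hVT).hom hfp hft

end lfp

section OverPb

variable {S S' : Scheme.{u}} (g : S' ⟶ S) {T₀ G₀ H₀ : Over S} (φ₀ : T₀ ⟶ G₀) (ι₀ : H₀ ⟶ G₀)

/-- the base change of the pullback projection is a monomorphism as soon as the base change of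
`ι₀` is -/
theorem mono_snd_of_mono_map [Mono ((Over.pullback g).map ι₀)] :
    Mono (pullback.snd (pullback.fst φ₀.left ι₀.left) (pullback.fst T₀.hom g)) := by
  constructor
  intro W a b hab
  have h1 : a ≫ pullback.fst _ _ ≫ pullback.fst φ₀.left ι₀.left =
      b ≫ pullback.fst _ _ ≫ pullback.fst φ₀.left ι₀.left := by
    rw [pullback.condition, reassoc_of% hab]
  -- the two maps to `H₀`
  have key : ∀ c : W ⟶ pullback (pullback.fst φ₀.left ι₀.left) (pullback.fst T₀.hom g),
      (c ≫ pullback.fst _ _ ≫ pullback.snd φ₀.left ι₀.left) ≫ H₀.hom =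
        (c ≫ pullback.snd _ _ ≫ pullback.snd T₀.hom g) ≫ g := by
    intro c
    simp only [Category.assoc]
    rw [← Over.w ι₀, ← pullback.condition_assoc, Over.w φ₀, pullback.condition_assoc,
      pullback.condition]
  let Wo : Over S' := Over.mk (a ≫ pullback.snd _ _ ≫ pullback.snd T₀.hom g)
  let ma : Wo ⟶ (Over.pullback g).obj H₀ :=
    Over.homMk (pullback.lift (a ≫ pullback.fst _ _ ≫ pullback.snd φ₀.left ι₀.left)
      (a ≫ pullback.snd _ _ ≫ pullback.snd T₀.hom g) (key a)) (pullback.lift_snd _ _ _)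
  let mb : Wo ⟶ (Over.pullback g).obj H₀ :=
    Over.homMk (pullback.lift (b ≫ pullback.fst _ _ ≫ pullback.snd φ₀.left ι₀.left)
      (a ≫ pullback.snd _ _ ≫ pullback.snd T₀.hom g)
      (by rw [key b, reassoc_of% hab])) (pullback.lift_snd _ _ _)
  have hm : ma ≫ (Over.pullback g).map ι₀ = mb ≫ (Over.pullback g).map ι₀ := by
    ext
    simp only [Over.comp_left, Over.homMk_left, Over.pullback_map_left, ma, mb]
    apply pullback.hom_ext
    · simp only [Category.assoc, pullback.lift_fst, pullback.lift_fst_assoc]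
      rw [← pullback.condition, reassoc_of% h1]
    · simp only [Category.assoc, pullback.lift_snd]
  have hmab : ma = mb := (cancel_mono _).mp hm
  have h2 := congrArg (fun m : Wo ⟶ (Over.pullback g).obj H₀ => m.left ≫ pullback.fst H₀.hom g)
    hmab
  simp only [ma, mb, Over.homMk_left, pullback.lift_fst] at h2
  apply pullback.hom_ext
  · apply pullback.hom_ext
    · simpa only [Category.assoc] using h1
    · simpa only [Category.assoc] using h2
  · exact hab

/-- factorisation after base change makes the base change of the pullback projection an iso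
(version with `ι₀` a monomorphism only after base change) -/
theorem isIso_of_factor' [Mono ((Over.pullback g).map ι₀)]
    (h : ∃ k, k ≫ (Over.pullback g).map ι₀ = (Over.pullback g).map φ₀) :
    IsIso (pullback.snd (pullback.fst φ₀.left ι₀.left) (pullback.fst T₀.hom g)) := by
  obtain ⟨k, hk⟩ := h
  have hk' := congrArg CommaMorphism.left hk
  have w₁ : pullback.fst T₀.hom g ≫ φ₀.left = (k.left ≫ pullback.fst H₀.hom g) ≫ ι₀.left := by
    have h1 := congrArg (fun m => m ≫ pullback.fst G₀.hom g) hk'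
    simp only [Over.comp_left, Over.pullback_map_left, Category.assoc, pullback.lift_fst] at h1
    rw [Category.assoc]
    exact h1.symm
  let u : pullback T₀.hom g ⟶ pullback φ₀.left ι₀.left :=
    pullback.lift (pullback.fst T₀.hom g) (k.left ≫ pullback.fst H₀.hom g) w₁
  let s : pullback T₀.hom g ⟶
      pullback (pullback.fst φ₀.left ι₀.left) (pullback.fst T₀.hom g) :=
    pullback.lift u (𝟙 _) (by
      rw [Category.id_comp]
      exact pullback.lift_fst _ _ _)
  have hs : s ≫ pullback.snd (pullback.fst φ₀.left ι₀.left) (pullback.fst T₀.hom g) = 𝟙 _ :=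
    pullback.lift_snd _ _ _
  have : IsSplitEpi (pullback.snd (pullback.fst φ₀.left ι₀.left) (pullback.fst T₀.hom g)) :=
    IsSplitEpi.mk' ⟨s, hs⟩
  have := mono_snd_of_mono_map g φ₀ ι₀
  exact isIso_of_mono_of_isSplitEpi _

end OverPb

section General

variable {C : Type*} [Category C] {D' : Type*} [Category D']

theorem map_eq_of_iso {F F' : C ⥤ D'} (α : F ≅ F') {T G : C} (φ ψ : T ⟶ G)
    (h : F.map φ = F.map ψ) : F'.map φ = F'.map ψ := by
  have e : ∀ x : T ⟶ G, F'.map x = α.inv.app T ≫ F.map x ≫ α.hom.app G := by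
    intro x
    rw [α.hom.naturality, Iso.inv_hom_id_app_assoc]
  rw [e, e, h]

theorem mono_map_of_iso {F F' : C ⥤ D'} (α : F ≅ F') {H G : C} (u : H ⟶ G)
    [Mono (F.map u)] : Mono (F'.map u) := by
  have e : F'.map u = α.inv.app H ≫ F.map u ≫ α.hom.app G := by
    rw [α.hom.naturality, Iso.inv_hom_id_app_assoc]
  rw [e]
  infer_instance

end General

theorem map_eq_congr {S S' : Scheme.{u}} {g g' : S' ⟶ S} (e : g = g') {T₀ G₀ : Over S}
    (φ₀ ψ₀ : T₀ ⟶ G₀) (h : (Over.pullback g).map φ₀ = (Over.pullback g).map ψ₀) :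
    (Over.pullback g').map φ₀ = (Over.pullback g').map ψ₀ := by
  subst e
  exact h

theorem mono_map_congr {S S' : Scheme.{u}} {g g' : S' ⟶ S} (e : g = g') {H₀ G₀ : Over S}
    (u : H₀ ⟶ G₀) (h : Mono ((Over.pullback g).map u)) : Mono ((Over.pullback g').map u) := by
  subst e
  exact h

section Lim

variable {I : Type u} [SmallCategory I] [IsCofiltered I]
  (D : I ⥤ Scheme.{u}) (c : Limits.Cone D) (hc : Limits.IsLimit c)
  [∀ (i j : I) (a : i ⟶ j), IsAffineHom (D.map a)] (i₀ : I) [CompactSpace (D.obj i₀)]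
  {T₀ G₀ H₀ : Over (D.obj i₀)} (φ₀ ψ₀ : T₀ ⟶ G₀) (ι₀ : H₀ ⟶ G₀)

include hc in
/-- descent of factorisations through a finitely presented morphism which becomes a
monomorphism over the limit -/
theorem exists_factorsAt_of_mono_limit [Mono ((Over.pullback (c.π.app i₀)).map ι₀)]
    [LocallyOfFinitePresentation ι₀.left] [QuasiCompact ι₀.left] [QuasiSeparated ι₀.left]
    [LocallyOfFinitePresentation T₀.hom] [QuasiCompact T₀.hom] [QuasiSeparated T₀.hom]
    (h : ∃ k, k ≫ (Over.pullback (c.π.app i₀)).map ι₀ = (Over.pullback (c.π.app i₀)).map φ₀) :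
    ∃ (i : I) (a : i ⟶ i₀), FactorsAt D i₀ φ₀ ι₀ a := by
  have := isIso_of_factor' (c.π.app i₀) φ₀ ι₀ h
  obtain ⟨j, a, Xj, Yj, fj, gj, pY, pX, hY, hX, hiso⟩ :=
    Groth.Agent.S4805.result D c hc i₀ (pullback.fst φ₀.left ι₀.left) T₀.hom
      (pullback.snd (pullback.fst φ₀.left ι₀.left) (pullback.fst T₀.hom (c.π.app i₀)))
      (pullback.snd T₀.hom (c.π.app i₀)) (pullback.fst T₀.hom (c.π.app i₀))
      (pullback.fst (pullback.fst φ₀.left ι₀.left) (pullback.fst T₀.hom (c.π.app i₀)))
      (IsPullback.of_hasPullback _ _) (IsPullback.of_hasPullback _ _)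
  exact ⟨j, a, factor_of_isIso (D.map a) φ₀ ι₀ fj gj pY pX hY hX⟩

/-- the diagonal of an object of `Over S` -/
noncomputable abbrev odiag (G₀ : Over (D.obj i₀)) : G₀ ⟶ G₀ ⊗ G₀ := lift (𝟙 G₀) (𝟙 G₀)

theorem odiag_left (G₀ : Over (D.obj i₀)) : (odiag D i₀ G₀).left = pullback.diagonal G₀.hom := by
  apply pullback.hom_ext
  · rw [pullback.diagonal_fst]
    simp only [odiag, Over.lift_left, Over.id_left]
    exact pullback.lift_fst _ _ _
  · rw [pullback.diagonal_snd]
    simp only [odiag, Over.lift_left, Over.id_left]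
    exact pullback.lift_snd _ _ _

include hc in
/-- **Equality of morphisms descends to a stage.** -/
theorem exists_map_eq [LocallyOfFinitePresentation T₀.hom] [QuasiCompact T₀.hom]
    [QuasiSeparated T₀.hom] [LocallyOfFiniteType G₀.hom] [QuasiSeparated G₀.hom]
    (h : (Over.pullback (c.π.app i₀)).map φ₀ = (Over.pullback (c.π.app i₀)).map ψ₀) :
    ∃ (i : I) (a : i ⟶ i₀), (Over.pullback (D.map a)).map φ₀ = (Over.pullback (D.map a)).map ψ₀ := by
  have : Mono (odiag D i₀ G₀).left := by rw [odiag_left]; infer_instance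
  have : QuasiCompact (odiag D i₀ G₀).left := by
    rw [odiag_left]; infer_instance
  have : QuasiSeparated (odiag D i₀ G₀).left := by rw [odiag_left]; infer_instance
  have : LocallyOfFinitePresentation (odiag D i₀ G₀).left := by
    rw [odiag_left]
    have : LocallyOfFinitePresentation
        (pullback.diagonal G₀.hom ≫ pullback.fst G₀.hom G₀.hom) := by
      rw [pullback.diagonal_fst]; infer_instance
    exact locallyOfFinitePresentation_of_comp (pullback.diagonal G₀.hom)
      (pullback.fst G₀.hom G₀.hom)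
  have : Mono ((Over.pullback (c.π.app i₀)).map (odiag D i₀ G₀)) := by
    have : Mono (odiag D i₀ G₀) := Over.mono_of_mono_left _
    infer_instance
  have hfac : ∃ k, k ≫ (Over.pullback (c.π.app i₀)).map (odiag D i₀ G₀) =
      (Over.pullback (c.π.app i₀)).map (lift φ₀ ψ₀) := by
    refine ⟨(Over.pullback (c.π.app i₀)).map φ₀, ?_⟩
    rw [← Functor.map_comp, odiag, comp_lift, Category.comp_id,
      ← Functor.Monoidal.lift_μ, ← Functor.Monoidal.lift_μ, h]
  obtain ⟨i, a, k, hk⟩ := exists_factorsAt_of_mono_limit D c hc i₀ (lift φ₀ ψ₀) (odiag D i₀ G₀) hfac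
  refine ⟨i, a, ?_⟩
  have h1 := congrArg (fun m => m ≫ (Over.pullback (D.map a)).map (fst G₀ G₀)) hk
  have h2 := congrArg (fun m => m ≫ (Over.pullback (D.map a)).map (snd G₀ G₀)) hk
  simp only [Category.assoc, ← Functor.map_comp, odiag, lift_fst, lift_snd, Functor.map_id,
    Category.comp_id] at h1 h2
  rw [← h1, ← h2]

end Lim

end Groth.Agent.Lib.Helper28.SubGrp
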