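import Mathlib

/-!
# Group structures and monoidal functors: abstract lemmas

* `grpObjOfIso`: transport of a group structure along an isomorphism;
* `map_axioms_of_rep`: operations on `X` which become (up to an iso `e : G ≅ F.obj X`) the
  operations of a group object `G` after applying a monoidal functor `F` satisfy the group axioms
  after applying `F`;
* `grpObjOfMapAxioms`: operations on `X` satisfying the group axioms after applying `F` give a
  group structure on `F.obj X`;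
* `isMonHom_of_rep`.
-/

set_option autoImplicit false

namespace Groth.Agent.Lib.Helper28.SubGrp

open CategoryTheory MonoidalCategory CartesianMonoidalCategory MonObj GrpObj Functor
open Functor.LaxMonoidal Functor.OplaxMonoidal Functor.Monoidal

universe v₁ v₂ u₁ u₂
variable {C : Type u₁} [Category.{v₁} C] [CartesianMonoidalCategory C]
  {D : Type u₂} [Category.{v₂} D] [CartesianMonoidalCategory D]

/-- transport of a group structure along an isomorphism -/
@[reducible] def grpObjOfIso {G B : D} [GrpObj G] (e : G ≅ B) : GrpObj B where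
  toMonObj := MonObj.ofIso e
  inv := e.inv ≫ ι[G] ≫ e.hom
  left_inv := by
    show lift (e.inv ≫ ι[G] ≫ e.hom) (𝟙 B) ≫ (e.inv ⊗ₘ e.inv) ≫ μ[G] ≫ e.hom =
      toUnit B ≫ η[G] ≫ e.hom
    rw [lift_map_assoc]
    have h1 : lift ((e.inv ≫ ι[G] ≫ e.hom) ≫ e.inv) (𝟙 B ≫ e.inv) =
        e.inv ≫ lift ι[G] (𝟙 G) := by
      rw [comp_lift]
      simp
    rw [h1, Category.assoc, GrpObj.left_inv_assoc]
    simp
  right_inv := by
    show lift (𝟙 B) (e.inv ≫ ι[G] ≫ e.hom) ≫ (e.inv ⊗ₘ e.inv) ≫ μ[G] ≫ e.hom =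
      toUnit B ≫ η[G] ≫ e.hom
    rw [lift_map_assoc]
    have h1 : lift (𝟙 B ≫ e.inv) ((e.inv ≫ ι[G] ≫ e.hom) ≫ e.inv) =
        e.inv ≫ lift (𝟙 G) ι[G] := by
      rw [comp_lift]
      simp
    rw [h1, Category.assoc, GrpObj.right_inv_assoc]
    simp

variable (F : C ⥤ D) [F.Monoidal] (X : C) (m : X ⊗ X ⟶ X) (o : 𝟙_ C ⟶ X) (v : X ⟶ X)

section L3

variable [GrpObj (F.obj X)] (hm : F.map m = δ F X X ≫ μ[F.obj X])
  (ho : F.map o = OplaxMonoidal.η F ≫ η[F.obj X]) (hv : F.map v = ι[F.obj X])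

include hm ho in
theorem ax1 : F.map (o ▷ X ≫ m) = F.map (λ_ X).hom := by
  simp [hm, ho, ← δ_natural_left_assoc]

include hm ho in
theorem ax2 : F.map (X ◁ o ≫ m) = F.map (ρ_ X).hom := by
  simp [hm, ho, ← δ_natural_right_assoc]

include hm in
theorem ax3 : F.map (m ▷ X ≫ m) = F.map ((α_ X X X).hom ≫ X ◁ m ≫ m) := by
  simp [hm, ← δ_natural_left_assoc, ← δ_natural_right_assoc]

include hm ho hv in
theorem ax4 : F.map (lift v (𝟙 X) ≫ m) = F.map (toUnit X ≫ o) := by
  simp [hm, ho, hv, OplaxMonoidal.η_of_cartesianMonoidalCategory]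

include hm ho hv in
theorem ax5 : F.map (lift (𝟙 X) v ≫ m) = F.map (toUnit X ≫ o) := by
  simp [hm, ho, hv, OplaxMonoidal.η_of_cartesianMonoidalCategory]

end L3

/-- operations representing (via `e`) the group structure of `G` satisfy the group axioms after
applying `F` -/
theorem map_axioms_of_rep {G : D} [GrpObj G] (e : G ≅ F.obj X)
    (hm : LaxMonoidal.μ F X X ≫ F.map m = (e.inv ⊗ₘ e.inv) ≫ μ[G] ≫ e.hom)
    (ho : LaxMonoidal.ε F ≫ F.map o = η[G] ≫ e.hom)
    (hv : F.map v = e.inv ≫ ι[G] ≫ e.hom) :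
    F.map (o ▷ X ≫ m) = F.map (λ_ X).hom ∧ F.map (X ◁ o ≫ m) = F.map (ρ_ X).hom ∧
    F.map (m ▷ X ≫ m) = F.map ((α_ X X X).hom ≫ X ◁ m ≫ m) ∧
    F.map (lift v (𝟙 X) ≫ m) = F.map (toUnit X ≫ o) ∧
    F.map (lift (𝟙 X) v ≫ m) = F.map (toUnit X ≫ o) := by
  letI : GrpObj (F.obj X) := grpObjOfIso e
  have hm' : F.map m = δ F X X ≫ μ[F.obj X] := by
    show F.map m = δ F X X ≫ (e.inv ⊗ₘ e.inv) ≫ μ[G] ≫ e.hom
    rw [← hm, δ_μ_assoc]
  have ho' : F.map o = OplaxMonoidal.η F ≫ η[F.obj X] := by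
    show F.map o = OplaxMonoidal.η F ≫ η[G] ≫ e.hom
    rw [← ho, η_ε_assoc]
  have hv' : F.map v = ι[F.obj X] := hv
  exact ⟨ax1 F X m o hm' ho', ax2 F X m o hm' ho', ax3 F X m hm', ax4 F X m o v hm' ho' hv',
    ax5 F X m o v hm' ho' hv'⟩

/-- structure on `F.obj X` from operations on `X` whose axioms hold after `F` -/
@[reducible] def grpObjOfMapAxioms
    (h1 : F.map (o ▷ X ≫ m) = F.map (λ_ X).hom) (h2 : F.map (X ◁ o ≫ m) = F.map (ρ_ X).hom)
    (h3 : F.map (m ▷ X ≫ m) = F.map ((α_ X X X).hom ≫ X ◁ m ≫ m))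
    (h4 : F.map (lift v (𝟙 X) ≫ m) = F.map (toUnit X ≫ o))
    (h5 : F.map (lift (𝟙 X) v ≫ m) = F.map (toUnit X ≫ o)) : GrpObj (F.obj X) where
  one := ε F ≫ F.map o
  mul := LaxMonoidal.μ F X X ≫ F.map m
  one_mul := by
    simp only [comp_whiskerRight, Category.assoc, μ_natural_left_assoc]
    rw [← F.map_comp, h1]
    simp
  mul_one := by
    simp only [MonoidalCategory.whiskerLeft_comp, Category.assoc, μ_natural_right_assoc]
    rw [← F.map_comp, h2]
    simp
  mul_assoc := by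
    simp_rw [comp_whiskerRight, Category.assoc, μ_natural_left_assoc,
      MonoidalCategory.whiskerLeft_comp, Category.assoc, μ_natural_right_assoc]
    slice_lhs 3 4 => rw [← F.map_comp, h3]
    simp
  inv := F.map v
  left_inv := by
    have : lift (F.map v) (𝟙 (F.obj X)) ≫ LaxMonoidal.μ F X X ≫ F.map m =
        F.map (lift v (𝟙 X) ≫ m) := by
      rw [← F.map_id, Functor.Monoidal.lift_μ_assoc, ← F.map_comp]
    rw [this, h4]
    simp [Functor.Monoidal.toUnit_ε_assoc]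
  right_inv := by
    have : lift (𝟙 (F.obj X)) (F.map v) ≫ LaxMonoidal.μ F X X ≫ F.map m =
        F.map (lift (𝟙 X) v ≫ m) := by
      rw [← F.map_id, Functor.Monoidal.lift_μ_assoc, ← F.map_comp]
    rw [this, h5]
    simp [Functor.Monoidal.toUnit_ε_assoc]

open scoped Obj in
/-- an isomorphism `e : G ≅ F.obj X` through which the structure of `X` represents that of `G`
is a homomorphism -/
theorem isMonHom_of_rep {G : D} [GrpObj G] [GrpObj X] (e : G ≅ F.obj X)
    (hm : LaxMonoidal.μ F X X ≫ F.map μ[X] = (e.inv ⊗ₘ e.inv) ≫ μ[G] ≫ e.hom)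
    (ho : LaxMonoidal.ε F ≫ F.map η[X] = η[G] ≫ e.hom) : IsMonHom e.hom := by
  refine ⟨?_, ?_⟩
  · show η[G] ≫ e.hom = LaxMonoidal.ε F ≫ F.map η[X]
    exact ho.symm
  · show μ[G] ≫ e.hom = (e.hom ⊗ₘ e.hom) ≫ LaxMonoidal.μ F X X ≫ F.map μ[X]
    rw [hm]
    simp [← tensorHom_comp_tensorHom_assoc]

end Groth.Agent.Lib.Helper28.SubGrp
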