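import Mathlib
import Groth.Agent.Lib.Helper28.SubGrp.Crit

/-!
# Transport of the subgroup conditions along a monoidal functor
-/

set_option autoImplicit false

namespace Groth.Agent.Lib.Helper28.SubGrp

open CategoryTheory MonoidalCategory CartesianMonoidalCategory MonObj GrpObj
open scoped Obj

variable {C : Type*} [Category C] [CartesianMonoidalCategory C]
  {D : Type*} [Category D] [CartesianMonoidalCategory D]

section Tests

variable {G₀ H₀ : C} [GrpObj G₀] (ι₀ : H₀ ⟶ G₀)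

/-- the multiplication test morphism -/
def mulTest : H₀ ⊗ H₀ ⟶ G₀ := (fst H₀ H₀ ≫ ι₀) * (snd H₀ H₀ ≫ ι₀)

/-- the unit test morphism -/
def oneTest (G₀ : C) [GrpObj G₀] : 𝟙_ C ⟶ G₀ := 1

/-- the inverse test morphism -/
def invTest : H₀ ⟶ G₀ := ι₀⁻¹

/-- the conjugation test morphism -/
def conjTest : G₀ ⊗ H₀ ⟶ G₀ := fst G₀ H₀ * (snd G₀ H₀ ≫ ι₀) * (fst G₀ H₀)⁻¹

variable (F : C ⥤ D) [F.Monoidal]

theorem map_mulTest :
    F.map (mulTest ι₀) = (F.map (fst H₀ H₀) ≫ F.map ι₀) * (F.map (snd H₀ H₀) ≫ F.map ι₀) := by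
  rw [mulTest, Functor.map_mul, F.map_comp, F.map_comp]

theorem map_oneTest : F.map (oneTest G₀) = 1 := by
  rw [oneTest, Functor.map_one]

theorem map_invTest : F.map (invTest ι₀) = (F.map ι₀)⁻¹ := by
  rw [invTest, Functor.map_inv']

theorem map_conjTest :
    F.map (conjTest ι₀) =
      F.map (fst G₀ H₀) * (F.map (snd G₀ H₀) ≫ F.map ι₀) * (F.map (fst G₀ H₀))⁻¹ := by
  rw [conjTest, Functor.map_mul, Functor.map_mul, Functor.map_inv', F.map_comp]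

/-- limit side: a subgroup structure gives factorisations of the test morphisms -/
theorem exists_factor_of_isMonHom [instH : GrpObj (F.obj H₀)] [IsMonHom (F.map ι₀)] :
    (∃ k, k ≫ F.map ι₀ = F.map (mulTest ι₀)) ∧ (∃ k, k ≫ F.map ι₀ = F.map (oneTest G₀)) ∧
      (∃ k, k ≫ F.map ι₀ = F.map (invTest ι₀)) := by
  refine ⟨⟨F.map (fst H₀ H₀) * F.map (snd H₀ H₀), ?_⟩, ⟨1, ?_⟩, ⟨(𝟙 (F.obj H₀))⁻¹, ?_⟩⟩
  · rw [map_mulTest, MonObj.mul_comp]
  · rw [map_oneTest, MonObj.one_comp]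
  · rw [map_invTest, GrpObj.inv_comp, Category.id_comp]

theorem exists_factor_conj_of_normal
    (hn : ∀ (T : D) (g : T ⟶ F.obj G₀) (n : T ⟶ F.obj H₀),
      ∃ n' : T ⟶ F.obj H₀, g * (n ≫ F.map ι₀) * g⁻¹ = n' ≫ F.map ι₀) :
    ∃ k, k ≫ F.map ι₀ = F.map (conjTest ι₀) := by
  obtain ⟨n', hn'⟩ := hn _ (F.map (fst G₀ H₀)) (F.map (snd G₀ H₀))
  exact ⟨n', by rw [map_conjTest, hn']⟩

/-- stage side: factorisations of the test morphisms give a subgroup structure -/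
theorem exists_grpObj_of_factor_tests [Mono (F.map ι₀)]
    (hm : ∃ k, k ≫ F.map ι₀ = F.map (mulTest ι₀))
    (he : ∃ k, k ≫ F.map ι₀ = F.map (oneTest G₀))
    (hv : ∃ k, k ≫ F.map ι₀ = F.map (invTest ι₀)) :
    ∃ _ : GrpObj (F.obj H₀), IsMonHom (F.map ι₀) := by
  obtain ⟨km, hkm⟩ := hm
  obtain ⟨ke, hke⟩ := he
  obtain ⟨kv, hkv⟩ := hv
  refine exists_grpObj_of_factor (F.map ι₀) (Functor.LaxMonoidal.μ F H₀ H₀ ≫ km) ?_
    (Functor.LaxMonoidal.ε F ≫ ke) ?_ kv ?_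
  · rw [Category.assoc, hkm, map_mulTest, MonObj.comp_mul,
      Functor.Monoidal.μ_fst_assoc, Functor.Monoidal.μ_snd_assoc]
  · rw [Category.assoc, hke, map_oneTest, MonObj.comp_one]
  · rw [hkv, map_invTest]

theorem normal_of_factor_conj (hc : ∃ k, k ≫ F.map ι₀ = F.map (conjTest ι₀))
    (T : D) (g : T ⟶ F.obj G₀) (n : T ⟶ F.obj H₀) :
    ∃ n' : T ⟶ F.obj H₀, g * (n ≫ F.map ι₀) * g⁻¹ = n' ≫ F.map ι₀ := by
  obtain ⟨kc, hkc⟩ := hc
  refine ⟨lift g n ≫ Functor.LaxMonoidal.μ F G₀ H₀ ≫ kc, ?_⟩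
  rw [Category.assoc, Category.assoc, hkc, map_conjTest, MonObj.comp_mul, MonObj.comp_mul,
    GrpObj.comp_inv, MonObj.comp_mul, MonObj.comp_mul, GrpObj.comp_inv,
    Functor.Monoidal.μ_fst, Functor.Monoidal.μ_snd_assoc, lift_fst, lift_snd_assoc]

end Tests

end Groth.Agent.Lib.Helper28.SubGrp
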