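import Mathlib
import Groth.Prelude.Def_Red
import Groth.Agent.Lib.Helper28.SubGrp.Transport
import Groth.Agent.Lib.Helper28.SubGrp.Descend2

/-!
# Monomorphy, normality and centrality of a homomorphism of finitely presented group schemes
over a cofiltered limit hold at a finite stage
-/

set_option autoImplicit false
universe u

namespace Groth.Agent.Lib.Helper28.SubGrp

open CategoryTheory CategoryTheory.Limits AlgebraicGeometry MonoidalCategory
  CartesianMonoidalCategory MonObj GrpObj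
open scoped Obj

section Central

variable {C : Type*} [Category C] [CartesianMonoidalCategory C]
  {D : Type*} [Category D] [CartesianMonoidalCategory D]
  {G₀ H₀ : C} [GrpObj G₀] (ι₀ : H₀ ⟶ G₀) (F : C ⥤ D) [F.Monoidal]

/-- first commutation test morphism `(g, n) ↦ g * n` -/
def commTest₁ : G₀ ⊗ H₀ ⟶ G₀ := fst G₀ H₀ * (snd G₀ H₀ ≫ ι₀)

/-- second commutation test morphism `(g, n) ↦ n * g` -/
def commTest₂ : G₀ ⊗ H₀ ⟶ G₀ := (snd G₀ H₀ ≫ ι₀) * fst G₀ H₀

theorem map_commTest₁ :
    F.map (commTest₁ ι₀) = F.map (fst G₀ H₀) * (F.map (snd G₀ H₀) ≫ F.map ι₀) := by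
  rw [commTest₁, Functor.map_mul, F.map_comp]

theorem map_commTest₂ :
    F.map (commTest₂ ι₀) = (F.map (snd G₀ H₀) ≫ F.map ι₀) * F.map (fst G₀ H₀) := by
  rw [commTest₂, Functor.map_mul, F.map_comp]

theorem central_iff_map_commTest_eq :
    (∀ (T : D) (g : T ⟶ F.obj G₀) (n : T ⟶ F.obj H₀),
      g * (n ≫ F.map ι₀) = (n ≫ F.map ι₀) * g) ↔
      F.map (commTest₁ ι₀) = F.map (commTest₂ ι₀) := by
  constructor
  · intro h
    rw [map_commTest₁, map_commTest₂]
    exact h _ _ _
  · intro h T g n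
    have e₁ : (CartesianMonoidalCategory.lift g n ≫ Functor.LaxMonoidal.μ F G₀ H₀) ≫
        F.map (commTest₁ ι₀) = g * (n ≫ F.map ι₀) := by
      rw [map_commTest₁, MonObj.comp_mul]
      simp only [Category.assoc, Functor.Monoidal.μ_fst, Functor.Monoidal.μ_snd_assoc,
        CartesianMonoidalCategory.lift_fst, CartesianMonoidalCategory.lift_snd_assoc]
    have e₂ : (CartesianMonoidalCategory.lift g n ≫ Functor.LaxMonoidal.μ F G₀ H₀) ≫
        F.map (commTest₂ ι₀) = (n ≫ F.map ι₀) * g := by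
      rw [map_commTest₂, MonObj.comp_mul]
      simp only [Category.assoc, Functor.Monoidal.μ_fst, Functor.Monoidal.μ_snd_assoc,
        CartesianMonoidalCategory.lift_fst, CartesianMonoidalCategory.lift_snd_assoc]
    rw [← e₁, ← e₂, h]

end Central

section MonoKP

variable {S S' : Scheme.{u}} (g : S' ⟶ S) {H₀ G₀ : Over S} (u : H₀ ⟶ G₀)

/-- the kernel pair of `u` as an object over `S` -/
noncomputable def kp : Over S := Over.mk (pullback.fst u.left u.left ≫ H₀.hom)

theorem kp_hom : (kp u).hom = pullback.fst u.left u.left ≫ H₀.hom := rfl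

/-- first projection of the kernel pair -/
noncomputable def kp₁ : kp u ⟶ H₀ := Over.homMk (pullback.fst u.left u.left) rfl

/-- second projection of the kernel pair -/
noncomputable def kp₂ : kp u ⟶ H₀ := Over.homMk (pullback.snd u.left u.left) (by
  show pullback.snd u.left u.left ≫ H₀.hom = pullback.fst u.left u.left ≫ H₀.hom
  rw [← Over.w u, pullback.condition_assoc])

theorem kp₁_left : (kp₁ u).left = pullback.fst u.left u.left := rfl

theorem kp₂_left : (kp₂ u).left = pullback.snd u.left u.left := rfl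

theorem kp_w : kp₁ u ≫ u = kp₂ u ≫ u := by
  ext
  rw [Over.comp_left, Over.comp_left, kp₁_left, kp₂_left]
  exact pullback.condition

theorem map_kp_eq_of_mono [Mono ((Over.pullback g).map u)] :
    (Over.pullback g).map (kp₁ u) = (Over.pullback g).map (kp₂ u) := by
  rw [← cancel_mono ((Over.pullback g).map u), ← Functor.map_comp, ← Functor.map_comp, kp_w]

theorem mono_map_of_map_kp_eq
    (h : (Over.pullback g).map (kp₁ u) = (Over.pullback g).map (kp₂ u)) :
    Mono ((Over.pullback g).map u) := by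
  constructor
  intro W a b hab
  have hab' := congrArg (fun m => m.left ≫ pullback.fst G₀.hom g) hab
  simp only [Over.comp_left, Over.pullback_map_left, Category.assoc, pullback.lift_fst] at hab'
  have hwa : a.left ≫ pullback.snd H₀.hom g = W.hom := Over.w a
  have hwb : b.left ≫ pullback.snd H₀.hom g = W.hom := Over.w b
  let ℓ₀ : W.left ⟶ pullback u.left u.left :=
    pullback.lift (a.left ≫ pullback.fst H₀.hom g) (b.left ≫ pullback.fst H₀.hom g)
      (by simpa only [Category.assoc] using hab')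
  have hℓ₁ : ℓ₀ ≫ pullback.fst u.left u.left = a.left ≫ pullback.fst H₀.hom g :=
    pullback.lift_fst _ _ _
  have hℓ₂ : ℓ₀ ≫ pullback.snd u.left u.left = b.left ≫ pullback.fst H₀.hom g :=
    pullback.lift_snd _ _ _
  have hw : ℓ₀ ≫ (kp u).hom = W.hom ≫ g := by
    rw [kp_hom, reassoc_of% hℓ₁, pullback.condition, reassoc_of% hwa]
  let ℓ : W ⟶ (Over.pullback g).obj (kp u) :=
    Over.homMk (pullback.lift ℓ₀ W.hom hw) (pullback.lift_snd _ _ _)
  have hℓf : ℓ.left ≫ pullback.fst (kp u).hom g = ℓ₀ := pullback.lift_fst _ _ _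
  have hℓs : ℓ.left ≫ pullback.snd (kp u).hom g = W.hom := pullback.lift_snd _ _ _
  have h₁ : ℓ ≫ (Over.pullback g).map (kp₁ u) = a := by
    ext
    simp only [Over.comp_left, Over.pullback_map_left]
    apply pullback.hom_ext
    · rw [Category.assoc, pullback.lift_fst, reassoc_of% hℓf, kp₁_left]
      exact hℓ₁
    · rw [Category.assoc, pullback.lift_snd, hℓs, hwa]
  have h₂ : ℓ ≫ (Over.pullback g).map (kp₂ u) = b := by
    ext
    simp only [Over.comp_left, Over.pullback_map_left]
    apply pullback.hom_ext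
    · rw [Category.assoc, pullback.lift_fst, reassoc_of% hℓf, kp₂_left]
      exact hℓ₂
    · rw [Category.assoc, pullback.lift_snd, hℓs, hwb]
  rw [← h₁, ← h₂, h]

variable {S'' : Scheme.{u}} (h : S'' ⟶ S') {T₀ : Over S} (φ₀ ψ₀ : T₀ ⟶ G₀)

theorem mono_map_comp [Mono ((Over.pullback g).map u)] :
    Mono ((Over.pullback (h ≫ g)).map u) := by
  have : Mono ((Over.pullback g ⋙ Over.pullback h).map u) := by
    rw [Functor.comp_map]; infer_instance
  exact mono_map_of_iso (Over.pullbackComp h g).symm u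

theorem map_eq_comp (e : (Over.pullback g).map φ₀ = (Over.pullback g).map ψ₀) :
    (Over.pullback (h ≫ g)).map φ₀ = (Over.pullback (h ≫ g)).map ψ₀ :=
  map_eq_of_iso (Over.pullbackComp h g).symm φ₀ ψ₀
    (by rw [Functor.comp_map, Functor.comp_map, e])

theorem factor_comp' (e : ∃ k, k ≫ (Over.pullback g).map u = (Over.pullback g).map φ₀) :
    ∃ k, k ≫ (Over.pullback (h ≫ g)).map u = (Over.pullback (h ≫ g)).map φ₀ :=
  factor_of_iso (Over.pullbackComp h g).symm φ₀ u (factor_comp (Over.pullback h) φ₀ u e)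

end MonoKP

section Lim

variable {I : Type u} [SmallCategory I] [IsCofiltered I]
  (D : I ⥤ Scheme.{u}) (c : Limits.Cone D) (hc : Limits.IsLimit c)
  [∀ (i i' : I) (f : i ⟶ i'), IsAffineHom (D.map f)] [∀ i, CompactSpace (D.obj i)]
  (j : I) (Gj Hj : Over (D.obj j))
  [LocallyOfFinitePresentation Gj.hom] [QuasiCompact Gj.hom] [QuasiSeparated Gj.hom]
  [LocallyOfFinitePresentation Hj.hom] [QuasiCompact Hj.hom] [QuasiSeparated Hj.hom]
  (uj : Hj ⟶ Gj)

theorem fp_left : LocallyOfFinitePresentation uj.left ∧ QuasiCompact uj.left ∧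
    QuasiSeparated uj.left := by
  have e : uj.left ≫ Gj.hom = Hj.hom := Over.w uj
  refine ⟨?_, ?_, ?_⟩
  · have : LocallyOfFinitePresentation (uj.left ≫ Gj.hom) := by rw [e]; infer_instance
    exact locallyOfFinitePresentation_of_comp uj.left Gj.hom
  · have : QuasiCompact (uj.left ≫ Gj.hom) := by rw [e]; infer_instance
    exact QuasiCompact.of_comp uj.left Gj.hom
  · have : QuasiSeparated (uj.left ≫ Gj.hom) := by rw [e]; infer_instance
    exact QuasiSeparated.of_comp uj.left Gj.hom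

include hc in
/-- **Monomorphy descends to a stage.** -/
theorem exists_mono_map [Mono ((Over.pullback (c.π.app j)).map uj)] :
    ∃ (i : I) (a : i ⟶ j), Mono ((Over.pullback (D.map a)).map uj) := by
  obtain ⟨h1, h2, h3⟩ := fp_left D j Gj Hj uj
  have : LocallyOfFinitePresentation (kp uj).hom := by
    show LocallyOfFinitePresentation (pullback.fst uj.left uj.left ≫ Hj.hom); infer_instance
  have : QuasiCompact (kp uj).hom := by
    show QuasiCompact (pullback.fst uj.left uj.left ≫ Hj.hom); infer_instance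
  have : QuasiSeparated (kp uj).hom := by
    show QuasiSeparated (pullback.fst uj.left uj.left ≫ Hj.hom); infer_instance
  obtain ⟨i, a, e⟩ := exists_map_eq D c hc j (kp₁ uj) (kp₂ uj)
    (map_kp_eq_of_mono (c.π.app j) uj)
  exact ⟨i, a, mono_map_of_map_kp_eq (D.map a) uj e⟩

include hc in
theorem main2 [GrpObj Gj] [GrpObj Hj] :
    ((Mono ((Over.pullback (c.π.app j)).map uj) ∧ AlgGrp.IsNormalHom ((Over.pullback (c.π.app j)).map uj)) ↔
      ∃ (i : I) (f : i ⟶ j), Mono ((Over.pullback (D.map f)).map uj) ∧ AlgGrp.IsNormalHom ((Over.pullback (D.map f)).map uj)) ∧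
    ((Mono ((Over.pullback (c.π.app j)).map uj) ∧ (∀ (T : Over c.pt) (g : T ⟶ (Red.bc (c.π.app j) Gj)) (n : T ⟶ (Red.bc (c.π.app j) Hj)), g * (n ≫ ((Over.pullback (c.π.app j)).map uj)) = (n ≫ ((Over.pullback (c.π.app j)).map uj)) * g)) ↔
      ∃ (i : I) (f : i ⟶ j), Mono ((Over.pullback (D.map f)).map uj) ∧ (∀ (T : Over (D.obj i)) (g : T ⟶ (Red.bc (D.map f) Gj)) (n : T ⟶ (Red.bc (D.map f) Hj)), g * (n ≫ ((Over.pullback (D.map f)).map uj)) = (n ≫ ((Over.pullback (D.map f)).map uj)) * g)) := by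
  obtain ⟨h1, h2, h3⟩ := fp_left D j Gj Hj uj
  have : LocallyOfFinitePresentation (Gj ⊗ Hj).hom := by
    show LocallyOfFinitePresentation (pullback.fst Gj.hom Hj.hom ≫ Gj.hom); infer_instance
  have : QuasiCompact (Gj ⊗ Hj).hom := by
    show QuasiCompact (pullback.fst Gj.hom Hj.hom ≫ Gj.hom); infer_instance
  have : QuasiSeparated (Gj ⊗ Hj).hom := by
    show QuasiSeparated (pullback.fst Gj.hom Hj.hom ≫ Gj.hom); infer_instance
  have mono_stab : ∀ {i k : I} (a : i ⟶ j) (b : k ⟶ i),
      Mono ((Over.pullback (D.map a)).map uj) →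
        Mono ((Over.pullback (D.map (b ≫ a))).map uj) := by
    intro i k a b hm
    exact mono_map_congr (D.map_comp b a).symm uj (mono_map_comp (D.map a) uj (D.map b))
  have mono_lim : ∀ {i : I} (f : i ⟶ j), Mono ((Over.pullback (D.map f)).map uj) →
      Mono ((Over.pullback (c.π.app j)).map uj) := by
    intro i f hm
    exact mono_map_congr (c.w f) uj (mono_map_comp (D.map f) uj (c.π.app i))
  refine ⟨⟨?_, ?_⟩, ⟨?_, ?_⟩⟩
  · rintro ⟨hm, hn⟩
    obtain ⟨i₁, a₁, hm₁⟩ := exists_mono_map D c hc j Gj Hj uj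
    have h4 := exists_factor_conj_of_normal uj (Over.pullback (c.π.app j))
      (fun T g n => hn T g n)
    obtain ⟨i₂, a₂, f₂⟩ := exists_factorsAt_of_mono_limit D c hc j (conjTest uj) uj h4
    obtain ⟨k, b₁, b₂, e⟩ := IsCofiltered.cospan a₁ a₂
    have f₂' := f₂.comp D j _ _ b₂
    rw [← e] at f₂'
    exact ⟨k, b₁ ≫ a₁, mono_stab a₁ b₁ hm₁, fun T g n =>
      normal_of_factor_conj uj (Over.pullback (D.map (b₁ ≫ a₁))) f₂' T g n⟩
  · rintro ⟨i, f, hm, hn⟩
    refine ⟨mono_lim f hm, ?_⟩
    have h4 := exists_factor_conj_of_normal uj (Over.pullback (D.map f))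
      (fun T g n => hn T g n)
    have h5 := factor_congr (c.w f) (conjTest uj) uj
      (factor_comp' (D.map f) uj (c.π.app i) (conjTest uj) h4)
    exact fun T g n => normal_of_factor_conj uj (Over.pullback (c.π.app j)) h5 T g n
  · rintro ⟨hm, hcen⟩
    obtain ⟨i₁, a₁, hm₁⟩ := exists_mono_map D c hc j Gj Hj uj
    have h4 := (central_iff_map_commTest_eq uj (Over.pullback (c.π.app j))).mp
      (fun T g n => hcen T g n)
    obtain ⟨i₂, a₂, e₂⟩ := exists_map_eq D c hc j (commTest₁ uj) (commTest₂ uj) h4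
    obtain ⟨k, b₁, b₂, e⟩ := IsCofiltered.cospan a₁ a₂
    have e₂' := map_eq_congr ((D.map_comp b₂ a₂).symm.trans (congrArg D.map e.symm)) _ _
      (map_eq_comp (D.map a₂) (D.map b₂) (commTest₁ uj) (commTest₂ uj) e₂)
    exact ⟨k, b₁ ≫ a₁, mono_stab a₁ b₁ hm₁, fun T g n =>
      (central_iff_map_commTest_eq uj (Over.pullback (D.map (b₁ ≫ a₁)))).mpr e₂' T g n⟩
  · rintro ⟨i, f, hm, hcen⟩
    refine ⟨mono_lim f hm, ?_⟩
    have h4 := (central_iff_map_commTest_eq uj (Over.pullback (D.map f))).mp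
      (fun T g n => hcen T g n)
    have h5 := map_eq_congr (c.w f) _ _
      (map_eq_comp (D.map f) (c.π.app i) (commTest₁ uj) (commTest₂ uj) h4)
    exact fun T g n => (central_iff_map_commTest_eq uj (Over.pullback (c.π.app j))).mpr h5 T g n

end Lim

end Groth.Agent.Lib.Helper28.SubGrp
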