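import Mathlib
import Groth.Agent.Lib.Helper12.PbDiag
import Groth.Agent.Lib.Helper18.BcComp
import Groth.Agent.Lib.Helper28.SubGrp.Main2

/-!
# Descent of morphisms and of homomorphisms of finitely presented (group) schemes over a
cofiltered limit
-/

set_option autoImplicit false
universe u

namespace Groth.Agent.Lib.Helper28.SubGrp

open CategoryTheory CategoryTheory.Limits AlgebraicGeometry MonoidalCategory
  CartesianMonoidalCategory MonObj GrpObj
open Groth.Agent.Lib.Helper18 Groth.Agent.Lib.Helper12.PbDiag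
open scoped Obj

section BC

variable {X Y Z : Scheme.{u}}

theorem bc_hom_ext (d : X ⟶ Z) (A : Over Z) {W : Over X} (p q : W ⟶ (Over.pullback d).obj A)
    (h : p.left ≫ pullback.fst A.hom d = q.left ≫ pullback.fst A.hom d) : p = q := by
  ext
  apply pullback.hom_ext h
  have hp : p.left ≫ pullback.snd A.hom d = W.hom := Over.w p
  have hq : q.left ≫ pullback.snd A.hom d = W.hom := Over.w q
  rw [hp, hq]

@[reassoc]
theorem map_left_fst (d : X ⟶ Z) {A B : Over Z} (φ : A ⟶ B) :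
    ((Over.pullback d).map φ).left ≫ pullback.fst B.hom d = pullback.fst A.hom d ≫ φ.left :=
  pullback.lift_fst _ _ _

theorem pullbackComp_hom_left_fst (f : X ⟶ Y) (g : Y ⟶ Z) (A : Over Z) :
    ((Over.pullbackComp f g).hom.app A).left ≫ pullback.fst (pullback.snd A.hom g) f ≫
      pullback.fst A.hom g = pullback.fst A.hom (f ≫ g) := by
  have h := conjugateEquiv_counit (Over.mapPullbackAdj (f ≫ g))
    ((Over.mapPullbackAdj f).comp (Over.mapPullbackAdj g)) (Over.mapComp f g).symm.hom A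
  have h' := congrArg CommaMorphism.left h
  simpa [Over.pullbackComp] using h'

theorem pullbackComp_inv_left_fst (f : X ⟶ Y) (g : Y ⟶ Z) (A : Over Z) :
    ((Over.pullbackComp f g).inv.app A).left ≫ pullback.fst A.hom (f ≫ g) =
      pullback.fst (pullback.snd A.hom g) f ≫ pullback.fst A.hom g := by
  have h2 : ((Over.pullbackComp f g).inv.app A).left ≫
      ((Over.pullbackComp f g).hom.app A).left = 𝟙 _ := by
    rw [← Over.comp_left, Iso.inv_hom_id_app]; rfl
  rw [← pullbackComp_hom_left_fst f g A, reassoc_of% h2]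

@[reassoc]
theorem bcCompIso_hom_left_fst (f : X ⟶ Y) (g : Y ⟶ Z) {d : X ⟶ Z} (h : f ≫ g = d)
    (A : Over Z) :
    (bcCompIso f g h A).hom.left ≫ pullback.fst A.hom d =
      pullback.fst ((Over.pullback g).obj A).hom f ≫ pullback.fst A.hom g := by
  subst h
  rw [bcCompIso_hom, eqToHom_refl, Category.comp_id]
  exact pullbackComp_inv_left_fst f g A

theorem bcCompIso_cocycle {W : Scheme.{u}} (f : X ⟶ Y) (g : Y ⟶ Z) (k : Z ⟶ W)
    {d₁ : X ⟶ Z} (h₁ : f ≫ g = d₁) {d₂ : Y ⟶ W} (h₂ : g ≫ k = d₂) {d : X ⟶ W}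
    (h : f ≫ d₂ = d) (h' : d₁ ≫ k = d) (A : Over W) :
    (Over.pullback f).map (bcCompIso g k h₂ A).hom ≫ (bcCompIso f d₂ h A).hom =
      (bcCompIso f g h₁ ((Over.pullback k).obj A)).hom ≫ (bcCompIso d₁ k h' A).hom := by
  apply bc_hom_ext
  simp only [Over.comp_left, Category.assoc]
  rw [bcCompIso_hom_left_fst, bcCompIso_hom_left_fst, map_left_fst_assoc,
    bcCompIso_hom_left_fst, bcCompIso_hom_left_fst_assoc]

end BC

section MonHom

variable {C : Type*} [Category C] [CartesianMonoidalCategory C]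
  {D : Type*} [Category D] [CartesianMonoidalCategory D] (F : C ⥤ D) [F.Monoidal]
  {G H : C} [MonObj G] [MonObj H] (f : G ⟶ H)

theorem isMonHom_map_iff :
    IsMonHom (F.map f) ↔
      F.map (μ ≫ f) = F.map ((f ⊗ₘ f) ≫ μ) ∧ F.map (η ≫ f) = F.map η := by
  constructor
  · intro h
    constructor
    · have h1 : (Functor.LaxMonoidal.μ F G G ≫ F.map μ) ≫ F.map f =
          (F.map f ⊗ₘ F.map f) ≫ Functor.LaxMonoidal.μ F H H ≫ F.map μ :=
        IsMonHom.mul_hom (F.map f)
      rw [Functor.LaxMonoidal.μ_natural_assoc, Category.assoc, cancel_epi] at h1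
      rw [F.map_comp, F.map_comp, h1]
    · have h1 : (Functor.LaxMonoidal.ε F ≫ F.map η) ≫ F.map f =
          Functor.LaxMonoidal.ε F ≫ F.map η := IsMonHom.one_hom (F.map f)
      rw [Category.assoc, cancel_epi] at h1
      rw [F.map_comp, h1]
  · rintro ⟨h1, h2⟩
    refine ⟨?_, ?_⟩
    · show (Functor.LaxMonoidal.ε F ≫ F.map η) ≫ F.map f = Functor.LaxMonoidal.ε F ≫ F.map η
      rw [Category.assoc, ← F.map_comp, h2]
    · show (Functor.LaxMonoidal.μ F G G ≫ F.map μ) ≫ F.map f =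
          (F.map f ⊗ₘ F.map f) ≫ Functor.LaxMonoidal.μ F H H ≫ F.map μ
      rw [Functor.LaxMonoidal.μ_natural_assoc, Category.assoc, ← F.map_comp, h1, F.map_comp]

end MonHom

section FP

variable {S S' : Scheme.{u}} (g : S' ⟶ S) (X Y : Over S)
  [LocallyOfFinitePresentation X.hom] [QuasiCompact X.hom] [QuasiSeparated X.hom]

theorem fp_bc : LocallyOfFinitePresentation ((Over.pullback g).obj X).hom ∧
    QuasiCompact ((Over.pullback g).obj X).hom ∧ QuasiSeparated ((Over.pullback g).obj X).hom := by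
  refine ⟨?_, ?_, ?_⟩
  · show LocallyOfFinitePresentation (pullback.snd X.hom g); infer_instance
  · show QuasiCompact (pullback.snd X.hom g); infer_instance
  · show QuasiSeparated (pullback.snd X.hom g); infer_instance

theorem fp_tensor [LocallyOfFinitePresentation Y.hom] [QuasiCompact Y.hom]
    [QuasiSeparated Y.hom] : LocallyOfFinitePresentation (X ⊗ Y).hom ∧
    QuasiCompact (X ⊗ Y).hom ∧ QuasiSeparated (X ⊗ Y).hom := by
  refine ⟨?_, ?_, ?_⟩
  · show LocallyOfFinitePresentation (pullback.fst X.hom Y.hom ≫ X.hom); infer_instance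
  · show QuasiCompact (pullback.fst X.hom Y.hom ≫ X.hom); infer_instance
  · show QuasiSeparated (pullback.fst X.hom Y.hom ≫ X.hom); infer_instance

theorem fp_unit (S : Scheme.{u}) : LocallyOfFinitePresentation (𝟙_ (Over S)).hom ∧
    QuasiCompact (𝟙_ (Over S)).hom ∧ QuasiSeparated (𝟙_ (Over S)).hom := by
  refine ⟨?_, ?_, ?_⟩
  · show LocallyOfFinitePresentation (𝟙 S); infer_instance
  · show QuasiCompact (𝟙 S); infer_instance
  · show QuasiSeparated (𝟙 S); infer_instance

end FP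

section HomDesc

variable {I : Type u} [SmallCategory I] [IsCofiltered I]
  (D : I ⥤ Scheme.{u}) (c : Limits.Cone D) (hc : Limits.IsLimit c)
  [∀ (i i' : I) (f : i ⟶ i'), IsAffineHom (D.map f)] (i₀ : I)
  [CompactSpace (D.obj i₀)] [QuasiSeparatedSpace (D.obj i₀)]
  (X₀ Y₀ : Over (D.obj i₀)) [QuasiCompact X₀.hom] [QuasiSeparated X₀.hom]
  [LocallyOfFinitePresentation Y₀.hom]

include hc in
/-- **Descent of morphisms**: a morphism between the base changes to the limit of a qcqs
`S_{i₀}`-scheme and a locally finitely presented one comes from a stage. -/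
theorem exists_hom_descent
    (φ : (Over.pullback (c.π.app i₀)).obj X₀ ⟶ (Over.pullback (c.π.app i₀)).obj Y₀) :
    ∃ (i : I) (a : i ⟶ i₀)
      (φi : (Over.pullback (D.map a)).obj X₀ ⟶ (Over.pullback (D.map a)).obj Y₀),
      (Over.pullback (c.π.app i)).map φi =
        (bcCompIso (c.π.app i) (D.map a) (c.w a) X₀).hom ≫ φ ≫
          (bcCompIso (c.π.app i) (D.map a) (c.w a) Y₀).inv := by
  have hD : ∀ {i j : I} (f : i ⟶ j), IsAffineHom (D.map f) := fun f => inferInstance
  have hZ : IsPullback (pullback.fst X₀.hom (c.π.app i₀)) (pullback.snd X₀.hom (c.π.app i₀))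
      X₀.hom (c.π.app i₀) := IsPullback.of_hasPullback _ _
  have hc' : IsLimit (pbCone c _ _ hZ) := isLimitPbCone c hc _ _ hZ
  have : ∀ l, CompactSpace ((pbDiagram D i₀ X₀.hom).obj l) :=
    fun l => compactSpace_pbDiagram_obj D i₀ X₀.hom l
  have : ∀ l, QuasiSeparatedSpace ((pbDiagram D i₀ X₀.hom).obj l) :=
    fun l => quasiSeparatedSpace_pbDiagram_obj D i₀ X₀.hom l
  have : ∀ {l k : Over i₀} (e : l ⟶ k), IsAffineHom ((pbDiagram D i₀ X₀.hom).map e) :=
    fun e => isAffineHom_pbDiagram_map D i₀ X₀.hom e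
  let t : pbDiagram D i₀ X₀.hom ⟶ (Functor.const _).obj (D.obj i₀) :=
    pbDiagramFst D i₀ X₀.hom ≫ (Functor.const _).map X₀.hom
  have ht : ∀ l, t.app l = pullback.fst X₀.hom (D.map l.hom) ≫ X₀.hom := fun l => rfl
  have hφ : φ.left ≫ pullback.snd Y₀.hom (c.π.app i₀) = pullback.snd X₀.hom (c.π.app i₀) :=
    Over.w φ
  have k1 : ∀ l : Over i₀, (pbCone c _ _ hZ).π.app l ≫ pullback.fst X₀.hom (D.map l.hom) =
      pullback.fst X₀.hom (c.π.app i₀) := fun l => pbCone_π_fst c _ _ hZ l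
  have k2 : ∀ l : Over i₀, (pbCone c _ _ hZ).π.app l ≫ pullback.snd X₀.hom (D.map l.hom) =
      pullback.snd X₀.hom (c.π.app i₀) ≫ c.π.app l.left := fun l => pbCone_π_snd c _ _ hZ l
  have ha : (pbCone c _ _ hZ).π ≫ t =
      (Functor.const _).map ((φ.left ≫ pullback.fst Y₀.hom (c.π.app i₀)) ≫ Y₀.hom) := by
    ext l
    have e0 : pullback.fst X₀.hom (c.π.app i₀) ≫ X₀.hom =
        (φ.left ≫ pullback.fst Y₀.hom (c.π.app i₀)) ≫ Y₀.hom := by
      rw [Category.assoc, pullback.condition, pullback.condition, reassoc_of% hφ]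
    have h1 : (pbCone c _ _ hZ).π.app l ≫ pullback.fst X₀.hom (D.map l.hom) ≫ X₀.hom =
        (φ.left ≫ pullback.fst Y₀.hom (c.π.app i₀)) ≫ Y₀.hom :=
      (Category.assoc _ _ _).symm.trans ((congrArg (· ≫ X₀.hom) (k1 l)).trans e0)
    exact h1
  obtain ⟨l, g, hg₁, hg₂⟩ := Scheme.exists_π_app_comp_eq_of_locallyOfFinitePresentation
    (pbDiagram D i₀ X₀.hom) t Y₀.hom (pbCone c _ _ hZ) hc'
    (φ.left ≫ pullback.fst Y₀.hom (c.π.app i₀)) ha
  obtain ⟨p, hp⟩ : ∃ p : pullback X₀.hom (c.π.app i₀) ⟶ pullback X₀.hom (D.map l.hom),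
      p = (pbCone c _ _ hZ).π.app l := ⟨_, rfl⟩
  have hp1 : p ≫ pullback.fst X₀.hom (D.map l.hom) = pullback.fst X₀.hom (c.π.app i₀) := by
    rw [hp]; exact k1 l
  have hp2 : p ≫ pullback.snd X₀.hom (D.map l.hom) =
      pullback.snd X₀.hom (c.π.app i₀) ≫ c.π.app l.left := by
    rw [hp]; exact k2 l
  obtain ⟨g', hg'⟩ : ∃ g' : pullback X₀.hom (D.map l.hom) ⟶ Y₀.left, g' = g := ⟨_, rfl⟩
  have hpg : p ≫ g' = φ.left ≫ pullback.fst Y₀.hom (c.π.app i₀) := by
    rw [hp, hg']; exact hg₁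
  have hg₂' : g' ≫ Y₀.hom = pullback.snd X₀.hom (D.map l.hom) ≫ D.map l.hom := by
    rw [← pullback.condition, hg']
    exact hg₂
  let φi : (Over.pullback (D.map l.hom)).obj X₀ ⟶ (Over.pullback (D.map l.hom)).obj Y₀ :=
    Over.homMk (pullback.lift g' (pullback.snd X₀.hom (D.map l.hom)) hg₂')
      (pullback.lift_snd _ _ _)
  have hφi : φi.left ≫ pullback.fst Y₀.hom (D.map l.hom) = g' := pullback.lift_fst _ _ _
  have hw : (bcCompIso (c.π.app l.left) (D.map l.hom) (c.w l.hom) X₀).hom.left ≫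
      pullback.snd X₀.hom (c.π.app i₀) =
        pullback.snd (pullback.snd X₀.hom (D.map l.hom)) (c.π.app l.left) :=
    Over.w (bcCompIso (c.π.app l.left) (D.map l.hom) (c.w l.hom) X₀).hom
  have key : (bcCompIso (c.π.app l.left) (D.map l.hom) (c.w l.hom) X₀).hom.left ≫ p =
        pullback.fst (pullback.snd X₀.hom (D.map l.hom)) (c.π.app l.left) := by
    apply pullback.hom_ext
    · rw [Category.assoc, hp1]
      exact bcCompIso_hom_left_fst _ _ _ X₀
    · rw [Category.assoc, hp2, reassoc_of% hw, pullback.condition]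
  refine ⟨l.left, l.hom, φi, ?_⟩
  have main : (Over.pullback (c.π.app l.left)).map φi ≫
      (bcCompIso (c.π.app l.left) (D.map l.hom) (c.w l.hom) Y₀).hom =
        (bcCompIso (c.π.app l.left) (D.map l.hom) (c.w l.hom) X₀).hom ≫ φ := by
    apply bc_hom_ext
    simp only [Over.comp_left, Category.assoc]
    rw [bcCompIso_hom_left_fst, map_left_fst_assoc, hφi, ← hpg, reassoc_of% key]
    rfl
  rw [(Iso.eq_comp_inv _).mpr main, Category.assoc]

end HomDesc

end Groth.Agent.Lib.Helper28.SubGrp
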