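import Mathlib
import Groth.Agent.Lib.Helper12.FpDesc
import Groth.Agent.Lib.Helper28.SubGrp.HomDesc
import Groth.Agent.Lib.Helper28.SubGrp.GrpAbs

/-!
# A finitely presented group scheme over a cofiltered limit descends to a stage
-/

set_option autoImplicit false
universe u

namespace Groth.Agent.Lib.Helper28.SubGrp

open CategoryTheory CategoryTheory.Limits AlgebraicGeometry MonoidalCategory
  CartesianMonoidalCategory MonObj GrpObj
open Groth.Agent.Lib.Helper18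
open scoped Obj

section Theta

variable {X Y Z : Scheme.{u}}

@[reassoc]
theorem bcCompIso_hom_tensor (f : X ⟶ Y) (g : Y ⟶ Z) {d : X ⟶ Z} (h : f ≫ g = d)
    (A B : Over Z) :
    Functor.LaxMonoidal.μ (Over.pullback f) ((Over.pullback g).obj A) ((Over.pullback g).obj B) ≫
      (Over.pullback f).map (Functor.LaxMonoidal.μ (Over.pullback g) A B) ≫
        (bcCompIso f g h (A ⊗ B)).hom =
    ((bcCompIso f g h A).hom ⊗ₘ (bcCompIso f g h B).hom) ≫
      Functor.LaxMonoidal.μ (Over.pullback d) A B := by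
  subst h
  simp only [bcCompIso_hom, eqToHom_refl, Category.comp_id]
  have := NatTrans.IsMonoidal.tensor (τ := (Over.pullbackComp f g).inv) A B
  simpa [Functor.LaxMonoidal.comp_μ] using this

@[reassoc]
theorem bcCompIso_hom_unit (f : X ⟶ Y) (g : Y ⟶ Z) {d : X ⟶ Z} (h : f ≫ g = d) :
    Functor.LaxMonoidal.ε (Over.pullback f) ≫
      (Over.pullback f).map (Functor.LaxMonoidal.ε (Over.pullback g)) ≫
        (bcCompIso f g h (𝟙_ (Over Z))).hom =
    Functor.LaxMonoidal.ε (Over.pullback d) := by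
  subst h
  simp only [bcCompIso_hom, eqToHom_refl, Category.comp_id]
  have := NatTrans.IsMonoidal.unit (τ := (Over.pullbackComp f g).inv)
  simpa [Functor.LaxMonoidal.comp_ε] using this

end Theta

section Stage

variable {I : Type u} [SmallCategory I] [IsCofiltered I] {i : I}

/-- a predicate on stages over `i` which is stable under passing to a later stage -/
def Stable (P : ∀ i' : I, (i' ⟶ i) → Prop) : Prop :=
  ∀ (i' i'' : I) (b : i' ⟶ i) (d : i'' ⟶ i'), P i' b → P i'' (d ≫ b)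

theorem Stable.and {P Q : ∀ i' : I, (i' ⟶ i) → Prop} (hP : Stable P) (hQ : Stable Q) :
    Stable (fun i' b => P i' b ∧ Q i' b) :=
  fun _ _ b d h => ⟨hP _ _ b d h.1, hQ _ _ b d h.2⟩

theorem exists_and_stage {P Q : ∀ i' : I, (i' ⟶ i) → Prop} (hP : Stable P) (hQ : Stable Q)
    (h₁ : ∃ i' b, P i' b) (h₂ : ∃ i' b, Q i' b) : ∃ i' b, P i' b ∧ Q i' b := by
  obtain ⟨i₁, b₁, p⟩ := h₁
  obtain ⟨i₂, b₂, q⟩ := h₂
  obtain ⟨k, d₁, d₂, e⟩ := IsCofiltered.cospan b₁ b₂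
  exact ⟨k, d₁ ≫ b₁, hP _ _ b₁ d₁ p, e ▸ hQ _ _ b₂ d₂ q⟩

theorem stable_eqAt (D : I ⥤ Scheme.{u}) {T Y : Over (D.obj i)} (φ ψ : T ⟶ Y) :
    Stable (fun i' (b : i' ⟶ i) =>
      (Over.pullback (D.map b)).map φ = (Over.pullback (D.map b)).map ψ) :=
  fun _ _ b d h => map_eq_congr (D.map_comp d b).symm _ _
    (map_eq_comp (D.map b) (D.map d) _ _ h)

end Stage

section Main

variable {I : Type u} [SmallCategory I] [IsCofiltered I]
  (D : I ⥤ Scheme.{u}) (c : Limits.Cone D) (hc : Limits.IsLimit c)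
  [∀ (i i' : I) (f : i ⟶ i'), IsAffineHom (D.map f)] [∀ i, CompactSpace (D.obj i)]
  [∀ i, QuasiSeparatedSpace (D.obj i)]
  (G : Over c.pt) [GrpObj G]

/-- a model of `G` at a stage -/
structure Model where
  i : I
  G₀ : Over (D.obj i)
  lfp : LocallyOfFinitePresentation G₀.hom
  qc : QuasiCompact G₀.hom
  qs : QuasiSeparated G₀.hom
  e : G ≅ (Over.pullback (c.π.app i)).obj G₀

attribute [instance] Model.lfp Model.qc Model.qs

variable {D c G}

/-- the base change of a model to a later stage -/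
noncomputable def Model.restage (M : Model D c G) {i' : I} (b : i' ⟶ M.i) : Model D c G where
  i := i'
  G₀ := (Over.pullback (D.map b)).obj M.G₀
  lfp := (fp_bc (D.map b) M.G₀).1
  qc := (fp_bc (D.map b) M.G₀).2.1
  qs := (fp_bc (D.map b) M.G₀).2.2
  e := M.e ≪≫ (bcCompIso (c.π.app i') (D.map b) (c.w b) M.G₀).symm

/-- `m` represents the multiplication of `G` -/
def RepMul (M : Model D c G) (m : M.G₀ ⊗ M.G₀ ⟶ M.G₀) : Prop :=
  Functor.LaxMonoidal.μ (Over.pullback (c.π.app M.i)) M.G₀ M.G₀ ≫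
    (Over.pullback (c.π.app M.i)).map m = (M.e.inv ⊗ₘ M.e.inv) ≫ μ[G] ≫ M.e.hom

/-- `o` represents the unit of `G` -/
def RepOne (M : Model D c G) (o : 𝟙_ (Over (D.obj M.i)) ⟶ M.G₀) : Prop :=
  Functor.LaxMonoidal.ε (Over.pullback (c.π.app M.i)) ≫
    (Over.pullback (c.π.app M.i)).map o = η[G] ≫ M.e.hom

/-- `v` represents the inverse of `G` -/
def RepInv (M : Model D c G) (v : M.G₀ ⟶ M.G₀) : Prop :=
  (Over.pullback (c.π.app M.i)).map v = M.e.inv ≫ ι[G] ≫ M.e.hom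

theorem RepMul.restage {M : Model D c G} {m : M.G₀ ⊗ M.G₀ ⟶ M.G₀} (h : RepMul M m) {i' : I}
    (b : i' ⟶ M.i) :
    RepMul (M.restage b) (Functor.LaxMonoidal.μ (Over.pullback (D.map b)) M.G₀ M.G₀ ≫
      (Over.pullback (D.map b)).map m) := by
  show Functor.LaxMonoidal.μ (Over.pullback (c.π.app i')) _ _ ≫
    (Over.pullback (c.π.app i')).map (Functor.LaxMonoidal.μ (Over.pullback (D.map b)) M.G₀ M.G₀ ≫
      (Over.pullback (D.map b)).map m) =
    ((M.e ≪≫ (bcCompIso (c.π.app i') (D.map b) (c.w b) M.G₀).symm).inv ⊗ₘ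
      (M.e ≪≫ (bcCompIso (c.π.app i') (D.map b) (c.w b) M.G₀).symm).inv) ≫ μ[G] ≫
        (M.e ≪≫ (bcCompIso (c.π.app i') (D.map b) (c.w b) M.G₀).symm).hom
  rw [← cancel_mono (bcCompIso (c.π.app i') (D.map b) (c.w b) M.G₀).hom]
  simp only [Iso.trans_inv, Iso.symm_inv, Iso.trans_hom, Iso.symm_hom, Category.assoc,
    Iso.inv_hom_id, Category.comp_id, Functor.map_comp]
  rw [bcCompIso_hom_naturality, bcCompIso_hom_tensor_assoc, h,
    ← tensorHom_comp_tensorHom_assoc]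

theorem RepOne.restage {M : Model D c G} {o : 𝟙_ (Over (D.obj M.i)) ⟶ M.G₀} (h : RepOne M o)
    {i' : I} (b : i' ⟶ M.i) :
    RepOne (M.restage b) (Functor.LaxMonoidal.ε (Over.pullback (D.map b)) ≫
      (Over.pullback (D.map b)).map o) := by
  show Functor.LaxMonoidal.ε (Over.pullback (c.π.app i')) ≫
    (Over.pullback (c.π.app i')).map (Functor.LaxMonoidal.ε (Over.pullback (D.map b)) ≫
      (Over.pullback (D.map b)).map o) =
    η[G] ≫ (M.e ≪≫ (bcCompIso (c.π.app i') (D.map b) (c.w b) M.G₀).symm).hom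
  rw [← cancel_mono (bcCompIso (c.π.app i') (D.map b) (c.w b) M.G₀).hom]
  simp only [Iso.trans_hom, Iso.symm_hom, Category.assoc,
    Iso.inv_hom_id, Category.comp_id, Functor.map_comp]
  rw [bcCompIso_hom_naturality, bcCompIso_hom_unit_assoc, h]

theorem RepInv.restage {M : Model D c G} {v : M.G₀ ⟶ M.G₀} (h : RepInv M v) {i' : I}
    (b : i' ⟶ M.i) : RepInv (M.restage b) ((Over.pullback (D.map b)).map v) := by
  show (Over.pullback (c.π.app i')).map ((Over.pullback (D.map b)).map v) =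
    (M.e ≪≫ (bcCompIso (c.π.app i') (D.map b) (c.w b) M.G₀).symm).inv ≫ ι[G] ≫
      (M.e ≪≫ (bcCompIso (c.π.app i') (D.map b) (c.w b) M.G₀).symm).hom
  rw [← cancel_mono (bcCompIso (c.π.app i') (D.map b) (c.w b) M.G₀).hom]
  simp only [Iso.trans_inv, Iso.symm_inv, Iso.trans_hom, Iso.symm_hom, Category.assoc,
    Iso.inv_hom_id, Category.comp_id]
  rw [bcCompIso_hom_naturality, h]

include hc in
theorem exists_repMul (M : Model D c G) :
    ∃ (i' : I) (b : i' ⟶ M.i) (m : (M.restage b).G₀ ⊗ (M.restage b).G₀ ⟶ (M.restage b).G₀),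
      RepMul (M.restage b) m := by
  obtain ⟨_, _, _⟩ := fp_tensor M.G₀ M.G₀
  obtain ⟨i', b, φ₁, hφ₁⟩ := exists_hom_descent D c hc M.i (M.G₀ ⊗ M.G₀) M.G₀
    (Functor.OplaxMonoidal.δ (Over.pullback (c.π.app M.i)) M.G₀ M.G₀ ≫
      (M.e.inv ⊗ₘ M.e.inv) ≫ μ[G] ≫ M.e.hom)
  refine ⟨i', b, Functor.LaxMonoidal.μ (Over.pullback (D.map b)) M.G₀ M.G₀ ≫ φ₁, ?_⟩
  show Functor.LaxMonoidal.μ (Over.pullback (c.π.app i')) _ _ ≫
    (Over.pullback (c.π.app i')).map (Functor.LaxMonoidal.μ (Over.pullback (D.map b)) M.G₀ M.G₀ ≫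
      φ₁) =
    ((M.e ≪≫ (bcCompIso (c.π.app i') (D.map b) (c.w b) M.G₀).symm).inv ⊗ₘ
      (M.e ≪≫ (bcCompIso (c.π.app i') (D.map b) (c.w b) M.G₀).symm).inv) ≫ μ[G] ≫
        (M.e ≪≫ (bcCompIso (c.π.app i') (D.map b) (c.w b) M.G₀).symm).hom
  rw [Functor.map_comp, hφ₁, bcCompIso_hom_tensor_assoc]
  simp only [Category.assoc]
  rw [Functor.Monoidal.μ_δ_assoc]
  simp only [Iso.trans_inv, Iso.symm_inv, Iso.trans_hom, Iso.symm_hom, Category.assoc,
    ← tensorHom_comp_tensorHom_assoc]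

include hc in
theorem exists_repOne (M : Model D c G) :
    ∃ (i' : I) (b : i' ⟶ M.i) (o : 𝟙_ (Over (D.obj i')) ⟶ (M.restage b).G₀),
      RepOne (M.restage b) o := by
  obtain ⟨_, _, _⟩ := fp_unit (D.obj M.i)
  obtain ⟨i', b, φ₁, hφ₁⟩ := exists_hom_descent D c hc M.i (𝟙_ (Over (D.obj M.i))) M.G₀
    (Functor.OplaxMonoidal.η (Over.pullback (c.π.app M.i)) ≫ η[G] ≫ M.e.hom)
  refine ⟨i', b, Functor.LaxMonoidal.ε (Over.pullback (D.map b)) ≫ φ₁, ?_⟩
  show Functor.LaxMonoidal.ε (Over.pullback (c.π.app i')) ≫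
    (Over.pullback (c.π.app i')).map (Functor.LaxMonoidal.ε (Over.pullback (D.map b)) ≫ φ₁) =
    η[G] ≫ (M.e ≪≫ (bcCompIso (c.π.app i') (D.map b) (c.w b) M.G₀).symm).hom
  rw [Functor.map_comp, hφ₁, bcCompIso_hom_unit_assoc]
  simp only [Category.assoc]
  rw [Functor.Monoidal.ε_η_assoc]
  simp only [Iso.trans_hom, Iso.symm_hom, Category.assoc]

include hc in
theorem exists_repInv (M : Model D c G) :
    ∃ (i' : I) (b : i' ⟶ M.i) (v : (M.restage b).G₀ ⟶ (M.restage b).G₀),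
      RepInv (M.restage b) v := by
  obtain ⟨i', b, φ₁, hφ₁⟩ := exists_hom_descent D c hc M.i M.G₀ M.G₀
    (M.e.inv ≫ ι[G] ≫ M.e.hom)
  refine ⟨i', b, φ₁, ?_⟩
  show (Over.pullback (c.π.app i')).map φ₁ =
    (M.e ≪≫ (bcCompIso (c.π.app i') (D.map b) (c.w b) M.G₀).symm).inv ≫ ι[G] ≫
      (M.e ≪≫ (bcCompIso (c.π.app i') (D.map b) (c.w b) M.G₀).symm).hom
  rw [hφ₁]
  simp only [Iso.trans_inv, Iso.symm_inv, Iso.trans_hom, Iso.symm_hom, Category.assoc]

include hc in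
theorem exists_model_ops (M₀ : Model D c G) :
    ∃ (M : Model D c G) (m : M.G₀ ⊗ M.G₀ ⟶ M.G₀) (o : 𝟙_ (Over (D.obj M.i)) ⟶ M.G₀)
      (v : M.G₀ ⟶ M.G₀), RepMul M m ∧ RepOne M o ∧ RepInv M v := by
  obtain ⟨i₁, b₁, m₁, hm₁⟩ := exists_repMul hc M₀
  obtain ⟨i₂, b₂, o₂, ho₂⟩ := exists_repOne hc (M₀.restage b₁)
  obtain ⟨i₃, b₃, v₃, hv₃⟩ := exists_repInv hc ((M₀.restage b₁).restage b₂)
  exact ⟨_, _, _, _, (hm₁.restage b₂).restage b₃, ho₂.restage b₃, hv₃⟩

variable (D c G)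

omit [GrpObj G] in
include hc in
theorem exists_model [LocallyOfFinitePresentation G.hom] [QuasiCompact G.hom]
    [QuasiSeparated G.hom] : Nonempty (Model D c G) := by
  have hD : ∀ {i j : I} (f : i ⟶ j), IsAffineHom (D.map f) := fun f => inferInstance
  obtain ⟨i, Zi, hi, g, h1, h2, h3, hP⟩ :=
    Groth.Agent.Lib.Helper12.FpDesc.descends_of_fp (D := D) (c := c) hc G.hom
  exact ⟨{ i := i, G₀ := Over.mk hi, lfp := h1, qc := h2, qs := h3,
           e := Over.isoMk hP.isoPullback hP.isoPullback_hom_snd }⟩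

include hc in
theorem exists_grp_descent [LocallyOfFinitePresentation G.hom] [QuasiCompact G.hom]
    [QuasiSeparated G.hom] :
    ∃ (j : I) (Gj : Over (D.obj j)) (_ : GrpObj Gj) (e : G ≅ Red.bc (c.π.app j) Gj),
      IsMonHom e.hom ∧ LocallyOfFinitePresentation Gj.hom ∧ QuasiCompact Gj.hom ∧
        QuasiSeparated Gj.hom := by
  obtain ⟨M₀⟩ := exists_model D c hc G
  obtain ⟨M, m, o, v, hm, ho, hv⟩ := exists_model_ops hc M₀
  obtain ⟨a1, a2, a3, a4, a5⟩ :=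
    map_axioms_of_rep (Over.pullback (c.π.app M.i)) M.G₀ m o v M.e hm ho hv
  obtain ⟨_, _, _⟩ := fp_unit (D.obj M.i)
  obtain ⟨_, _, _⟩ := fp_tensor (𝟙_ (Over (D.obj M.i))) M.G₀
  obtain ⟨_, _, _⟩ := fp_tensor M.G₀ (𝟙_ (Over (D.obj M.i)))
  obtain ⟨_, _, _⟩ := fp_tensor M.G₀ M.G₀
  obtain ⟨_, _, _⟩ := fp_tensor (M.G₀ ⊗ M.G₀) M.G₀
  have s1 := exists_map_eq D c hc M.i _ _ a1
  have s2 := exists_map_eq D c hc M.i _ _ a2
  have s3 := exists_map_eq D c hc M.i _ _ a3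
  have s4 := exists_map_eq D c hc M.i _ _ a4
  have s5 := exists_map_eq D c hc M.i _ _ a5
  have t12 := exists_and_stage (stable_eqAt D _ _) (stable_eqAt D _ _) s1 s2
  have t123 := exists_and_stage (Stable.and (stable_eqAt D _ _) (stable_eqAt D _ _))
    (stable_eqAt D _ _) t12 s3
  have t1234 := exists_and_stage
    (Stable.and (Stable.and (stable_eqAt D _ _) (stable_eqAt D _ _)) (stable_eqAt D _ _))
    (stable_eqAt D _ _) t123 s4
  obtain ⟨i', b, ⟨⟨⟨h1, h2⟩, h3⟩, h4⟩, h5⟩ := exists_and_stage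
    (Stable.and (Stable.and (Stable.and (stable_eqAt D _ _) (stable_eqAt D _ _))
      (stable_eqAt D _ _)) (stable_eqAt D _ _)) (stable_eqAt D _ _) t1234 s5
  let inst : GrpObj ((Over.pullback (D.map b)).obj M.G₀) :=
    grpObjOfMapAxioms (Over.pullback (D.map b)) M.G₀ m o v h1 h2 h3 h4 h5
  refine ⟨i', (Over.pullback (D.map b)).obj M.G₀, inst, (M.restage b).e, ?_,
    (M.restage b).lfp, (M.restage b).qc, (M.restage b).qs⟩
  exact isMonHom_of_rep (Over.pullback (c.π.app i')) ((Over.pullback (D.map b)).obj M.G₀)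
    (M.restage b).e (hm.restage b) (ho.restage b)

end Main

end Groth.Agent.Lib.Helper28.SubGrp
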