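import Mathlib
import Groth.Agent.S4805
import Groth.Agent.Lib.Helper28.SubGrp.HomDesc

/-!
# Descent of isomorphisms along a cofiltered limit (in `Over.pullback` language)
-/

set_option autoImplicit false
universe u

namespace Groth.Agent.Lib.Helper28.SubGrp

open CategoryTheory CategoryTheory.Limits AlgebraicGeometry MonoidalCategory
  CartesianMonoidalCategory
open Groth.Agent.Lib.Helper18

section Abstract

universe v₁ v₂ u₁ u₂
variable {C : Type u₁} [Category.{v₁} C] [CartesianMonoidalCategory C]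
  {E : Type u₂} [Category.{v₂} E] [CartesianMonoidalCategory E]
  (F : C ⥤ E) [F.Monoidal] {G X : C} (act : G ⊗ X ⟶ X)

open Functor.LaxMonoidal Functor.OplaxMonoidal Functor.Monoidal in
theorem lift_μ_map_eq :
    lift (Functor.LaxMonoidal.μ F G X ≫ F.map act) (snd (F.obj G) (F.obj X)) =
      Functor.LaxMonoidal.μ F G X ≫ F.map (lift act (snd G X)) ≫
        Functor.OplaxMonoidal.δ F X X := by
  apply CartesianMonoidalCategory.hom_ext
  · simp [← F.map_comp]
  · simp [← F.map_comp]

open Functor.LaxMonoidal Functor.OplaxMonoidal Functor.Monoidal in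
theorem isIso_lift_iff :
    IsIso (lift (Functor.LaxMonoidal.μ F G X ≫ F.map act) (snd (F.obj G) (F.obj X))) ↔
      IsIso (F.map (lift act (snd G X))) := by
  rw [lift_μ_map_eq]
  constructor
  · intro h
    have e : F.map (lift act (snd G X)) = Functor.OplaxMonoidal.δ F G X ≫
        (Functor.LaxMonoidal.μ F G X ≫ F.map (lift act (snd G X)) ≫
          Functor.OplaxMonoidal.δ F X X) ≫ Functor.LaxMonoidal.μ F X X := by
      simp only [Category.assoc, Functor.Monoidal.δ_μ, Functor.Monoidal.δ_μ_assoc,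
        Category.comp_id]
    rw [e]
    infer_instance
  · intro h
    infer_instance

end Abstract

section OverPb

variable {S S' S'' : Scheme.{u}} (g : S' ⟶ S) (h : S'' ⟶ S') {T₀ Y₀ : Over S} (ψ : T₀ ⟶ Y₀)

theorem isIso_map_comp [IsIso ((Over.pullback g).map ψ)] :
    IsIso ((Over.pullback (h ≫ g)).map ψ) := by
  have : IsIso ((Over.pullback g ⋙ Over.pullback h).map ψ) := by
    rw [Functor.comp_map]; infer_instance
  exact (NatIso.isIso_map_iff (Over.pullbackComp h g) ψ).mpr this

theorem isIso_map_congr {g g' : S' ⟶ S} (e : g = g')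
    (hi : IsIso ((Over.pullback g).map ψ)) : IsIso ((Over.pullback g').map ψ) := by
  subst e
  exact hi

end OverPb

section Lim

variable {I : Type u} [SmallCategory I] [IsCofiltered I]
  (D : I ⥤ Scheme.{u}) (c : Limits.Cone D) (hc : Limits.IsLimit c)
  [∀ (i j : I) (a : i ⟶ j), IsAffineHom (D.map a)] (i₀ : I) [CompactSpace (D.obj i₀)]
  {T₀ Y₀ : Over (D.obj i₀)} (ψ : T₀ ⟶ Y₀)

include hc in
/-- **Isomorphisms descend to a stage.** -/
theorem exists_isIso_map
    [LocallyOfFinitePresentation T₀.hom] [QuasiCompact T₀.hom] [QuasiSeparated T₀.hom]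
    [LocallyOfFiniteType Y₀.hom] [QuasiCompact Y₀.hom] [QuasiSeparated Y₀.hom]
    [IsIso ((Over.pullback (c.π.app i₀)).map ψ)] :
    ∃ (i : I) (a : i ⟶ i₀), IsIso ((Over.pullback (D.map a)).map ψ) := by
  have e : ψ.left ≫ Y₀.hom = T₀.hom := Over.w ψ
  have : LocallyOfFinitePresentation (ψ.left ≫ Y₀.hom) := by rw [e]; infer_instance
  have : QuasiCompact (ψ.left ≫ Y₀.hom) := by rw [e]; infer_instance
  have : QuasiSeparated (ψ.left ≫ Y₀.hom) := by rw [e]; infer_instance
  have : IsIso ((Over.pullback (c.π.app i₀)).map ψ).left :=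
    (Over.forget _).map_isIso ((Over.pullback (c.π.app i₀)).map ψ)
  obtain ⟨j, a, Xj, Yj, fj, gj, pY, pX, hY, hX, hiso⟩ :=
    Groth.Agent.S4805.result D c hc i₀ ψ.left Y₀.hom ((Over.pullback (c.π.app i₀)).map ψ).left
      (pullback.snd Y₀.hom (c.π.app i₀)) (pullback.fst Y₀.hom (c.π.app i₀))
      (pullback.fst T₀.hom (c.π.app i₀))
      (IsPullback.of_hasPullback _ _) (isPullback_map_left (c.π.app i₀) ψ).flip
  refine ⟨j, a, ?_⟩
  have he₁ : hY.isoPullback.inv ≫ pY = pullback.fst Y₀.hom (D.map a) :=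
    hY.isoPullback_inv_fst
  have hw : pullback.fst T₀.hom (D.map a) ≫ ψ.left =
      (((Over.pullback (D.map a)).map ψ).left ≫ hY.isoPullback.inv) ≫ pY := by
    rw [Category.assoc, he₁, map_left_fst]
  have hk₁ : hX.lift (pullback.fst T₀.hom (D.map a))
      (((Over.pullback (D.map a)).map ψ).left ≫ hY.isoPullback.inv) hw ≫ pX =
        pullback.fst T₀.hom (D.map a) := hX.lift_fst _ _ _
  have hk₂ : hX.lift (pullback.fst T₀.hom (D.map a))
      (((Over.pullback (D.map a)).map ψ).left ≫ hY.isoPullback.inv) hw ≫ fj =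
        ((Over.pullback (D.map a)).map ψ).left ≫ hY.isoPullback.inv := hX.lift_snd _ _ _
  have sq : IsPullback (hX.lift (pullback.fst T₀.hom (D.map a))
      (((Over.pullback (D.map a)).map ψ).left ≫ hY.isoPullback.inv) hw)
      ((Over.pullback (D.map a)).map ψ).left fj hY.isoPullback.inv := by
    refine IsPullback.of_right ?_ hk₂ hX
    rw [hk₁, he₁]
    exact (isPullback_map_left (D.map a) ψ).flip
  have h1 : IsIso ((Over.pullback (D.map a)).map ψ).left := sq.isIso_snd_of_isIso
  have : IsIso ((Over.forget (D.obj j)).map ((Over.pullback (D.map a)).map ψ)) := h1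
  exact isIso_of_reflects_iso _ (Over.forget (D.obj j))

end Lim

end Groth.Agent.Lib.Helper28.SubGrp
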