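import Mathlib
import Groth.Prelude.Def_Red
import Groth.Agent.Lib.Helper28.SubGrp.Transport
import Groth.Agent.Lib.Helper28.SubGrp.Descend

/-!
# A closed subscheme of a group scheme which is a subgroup over a limit is a subgroup at a stage
-/

set_option autoImplicit false
universe u

namespace Groth.Agent.Lib.Helper28.SubGrp

open CategoryTheory CategoryTheory.Limits AlgebraicGeometry MonoidalCategory
  CartesianMonoidalCategory MonObj GrpObj
open scoped Obj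

variable {I : Type u} [SmallCategory I] [IsCofiltered I]
  (D : I ⥤ Scheme.{u}) (c : Limits.Cone D) (hc : Limits.IsLimit c)
  [∀ (i j : I) (a : i ⟶ j), IsAffineHom (D.map a)] (i₀ : I)
  [CompactSpace (D.obj i₀)]
  (G₀ : Over (D.obj i₀)) [GrpObj G₀] [IsSeparated G₀.hom] [QuasiCompact G₀.hom]
  [LocallyOfFinitePresentation G₀.hom]
  (H₀ : Over (D.obj i₀)) (ι₀ : H₀ ⟶ G₀) [IsClosedImmersion ι₀.left]
  [LocallyOfFinitePresentation ι₀.left]

include ι₀ in
theorem fp_H₀ : LocallyOfFinitePresentation H₀.hom ∧ QuasiCompact H₀.hom ∧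
    QuasiSeparated H₀.hom := by
  rw [← Over.w ι₀]
  exact ⟨inferInstance, inferInstance, inferInstance⟩

theorem mono_map {i : Scheme.{u}} (g : i ⟶ D.obj i₀) : Mono ((Over.pullback g).map ι₀) := by
  haveI : Mono ι₀ := Over.mono_of_mono_left ι₀
  infer_instance

include hc in
theorem main
    (hH : ∃ _ : GrpObj (Red.bc (c.π.app i₀) H₀), IsMonHom ((Over.pullback (c.π.app i₀)).map ι₀)) :
    (∃ (i : I) (a : i ⟶ i₀) (_ : GrpObj (Red.bc (D.map a) H₀)),
        IsMonHom ((Over.pullback (D.map a)).map ι₀)) ∧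
    ((∃ (_ : GrpObj (Red.bc (c.π.app i₀) H₀))
        (_ : IsMonHom ((Over.pullback (c.π.app i₀)).map ι₀)),
        AlgGrp.IsNormalHom ((Over.pullback (c.π.app i₀)).map ι₀)) →
      ∃ (i : I) (a : i ⟶ i₀) (_ : GrpObj (Red.bc (D.map a) H₀))
        (_ : IsMonHom ((Over.pullback (D.map a)).map ι₀)),
        AlgGrp.IsNormalHom ((Over.pullback (D.map a)).map ι₀)) := by
  obtain ⟨hfp, hqc, hqs⟩ := fp_H₀ D i₀ G₀ H₀ ι₀
  haveI : LocallyOfFinitePresentation (H₀ ⊗ H₀).hom := by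
    show LocallyOfFinitePresentation (pullback.fst H₀.hom H₀.hom ≫ H₀.hom); infer_instance
  haveI : QuasiCompact (H₀ ⊗ H₀).hom := by
    show QuasiCompact (pullback.fst H₀.hom H₀.hom ≫ H₀.hom); infer_instance
  haveI : QuasiSeparated (H₀ ⊗ H₀).hom := by
    show QuasiSeparated (pullback.fst H₀.hom H₀.hom ≫ H₀.hom); infer_instance
  haveI : LocallyOfFinitePresentation (G₀ ⊗ H₀).hom := by
    show LocallyOfFinitePresentation (pullback.fst G₀.hom H₀.hom ≫ G₀.hom); infer_instance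
  haveI : QuasiCompact (G₀ ⊗ H₀).hom := by
    show QuasiCompact (pullback.fst G₀.hom H₀.hom ≫ G₀.hom); infer_instance
  haveI : QuasiSeparated (G₀ ⊗ H₀).hom := by
    show QuasiSeparated (pullback.fst G₀.hom H₀.hom ≫ G₀.hom); infer_instance
  haveI : LocallyOfFinitePresentation (𝟙_ (Over (D.obj i₀))).hom := by
    show LocallyOfFinitePresentation (𝟙 (D.obj i₀)); infer_instance
  haveI : QuasiCompact (𝟙_ (Over (D.obj i₀))).hom := by
    show QuasiCompact (𝟙 (D.obj i₀)); infer_instance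
  haveI : QuasiSeparated (𝟙_ (Over (D.obj i₀))).hom := by
    show QuasiSeparated (𝟙 (D.obj i₀)); infer_instance
  have key : ∀ (instH : GrpObj (Red.bc (c.π.app i₀) H₀))
      (_ : IsMonHom ((Over.pullback (c.π.app i₀)).map ι₀)),
      ∃ (i : I) (a : i ⟶ i₀), FactorsAt D i₀ (mulTest ι₀) ι₀ a ∧
        FactorsAt D i₀ (oneTest G₀) ι₀ a ∧ FactorsAt D i₀ (invTest ι₀) ι₀ a := by
    intro instH hmon
    obtain ⟨h1, h2, h3⟩ := exists_factor_of_isMonHom ι₀ (Over.pullback (c.π.app i₀))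
    obtain ⟨i₁, a₁, f₁⟩ := exists_factorsAt D c hc i₀ (mulTest ι₀) ι₀ h1
    obtain ⟨i₂, a₂, f₂⟩ := exists_factorsAt D c hc i₀ (oneTest G₀) ι₀ h2
    obtain ⟨i₃, a₃, f₃⟩ := exists_factorsAt D c hc i₀ (invTest ι₀) ι₀ h3
    obtain ⟨j, b₁, b₂, e₁₂⟩ := IsCofiltered.cospan a₁ a₂
    obtain ⟨j', b, b₃, e₃⟩ := IsCofiltered.cospan (b₁ ≫ a₁) a₃
    refine ⟨j', b ≫ b₁ ≫ a₁, (f₁.comp D i₀ _ _ b₁).comp D i₀ _ _ b, ?_, ?_⟩
    · have := f₂.comp D i₀ _ _ b₂
      rw [← e₁₂] at this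
      exact this.comp D i₀ _ _ b
    · have := f₃.comp D i₀ _ _ b₃
      rw [← e₃] at this
      exact this
  refine ⟨?_, ?_⟩
  · obtain ⟨instH, hmon⟩ := hH
    obtain ⟨i, a, f₁, f₂, f₃⟩ := key instH hmon
    haveI := mono_map D i₀ G₀ H₀ ι₀ (D.map a)
    obtain ⟨inst, hinst⟩ := exists_grpObj_of_factor_tests ι₀ (Over.pullback (D.map a)) f₁ f₂ f₃
    exact ⟨i, a, inst, hinst⟩
  · rintro ⟨instH, hmon, hnorm⟩
    obtain ⟨i, a, f₁, f₂, f₃⟩ := key instH hmon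
    have h4 := exists_factor_conj_of_normal ι₀ (Over.pullback (c.π.app i₀))
      (fun T g n => hnorm T g n)
    obtain ⟨i₄, a₄, f₄⟩ := exists_factorsAt D c hc i₀ (conjTest ι₀) ι₀ h4
    obtain ⟨j, b, b₄, e⟩ := IsCofiltered.cospan a a₄
    have f₄' := f₄.comp D i₀ _ _ b₄
    rw [← e] at f₄'
    haveI := mono_map D i₀ G₀ H₀ ι₀ (D.map (b ≫ a))
    obtain ⟨inst, hinst⟩ := exists_grpObj_of_factor_tests ι₀ (Over.pullback (D.map (b ≫ a)))
      (f₁.comp D i₀ _ _ b) (f₂.comp D i₀ _ _ b) (f₃.comp D i₀ _ _ b)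
    exact ⟨j, b ≫ a, inst, hinst,
      fun T g n => normal_of_factor_conj ι₀ (Over.pullback (D.map (b ≫ a))) f₄' T g n⟩

end Groth.Agent.Lib.Helper28.SubGrp
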