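import Mathlib
import Groth.Agent.Lib.Helper28.SubGrp.HomDesc

/-!
# Homomorphisms of finitely presented group schemes over a cofiltered limit descend to a stage
-/

set_option autoImplicit false
universe u

namespace Groth.Agent.Lib.Helper28.SubGrp

open CategoryTheory CategoryTheory.Limits AlgebraicGeometry MonoidalCategory
  CartesianMonoidalCategory MonObj GrpObj
open Groth.Agent.Lib.Helper18
open scoped Obj

variable {I : Type u} [SmallCategory I] [IsCofiltered I]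
  (D : I ⥤ Scheme.{u}) (c : Limits.Cone D) (hc : Limits.IsLimit c)
  [∀ (i i' : I) (f : i ⟶ i'), IsAffineHom (D.map f)] [∀ i, CompactSpace (D.obj i)]
  [∀ i, QuasiSeparatedSpace (D.obj i)]
  (j : I) (Gj Hj : Over (D.obj j)) [GrpObj Gj] [GrpObj Hj]
  [LocallyOfFinitePresentation Gj.hom] [QuasiCompact Gj.hom] [QuasiSeparated Gj.hom]
  [LocallyOfFinitePresentation Hj.hom] [QuasiCompact Hj.hom] [QuasiSeparated Hj.hom]

include hc in
theorem exists_monHom_descent (u : Red.bc (c.π.app j) Gj ⟶ Red.bc (c.π.app j) Hj)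
    [IsMonHom u] :
    ∃ (i : I) (f : i ⟶ j) (ui : Red.bc (D.map f) Gj ⟶ Red.bc (D.map f) Hj), IsMonHom ui ∧
      (Over.pullback (c.π.app i)).map ui =
        (bcCompIso (c.π.app i) (D.map f) (c.w f) Gj).hom ≫ u ≫
          (bcCompIso (c.π.app i) (D.map f) (c.w f) Hj).inv := by
  obtain ⟨i, a, ui, hui⟩ := exists_hom_descent D c hc j Gj Hj u
  have hmon : IsMonHom ((Over.pullback (c.π.app i)).map ui) := by
    rw [hui]; infer_instance
  obtain ⟨e₁, e₂⟩ := (isMonHom_map_iff (Over.pullback (c.π.app i)) ui).mp hmon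
  obtain ⟨_, _, _⟩ := fp_bc (D.map a) Gj
  obtain ⟨_, _, _⟩ := fp_bc (D.map a) Hj
  obtain ⟨_, _, _⟩ := fp_tensor (Red.bc (D.map a) Gj) (Red.bc (D.map a) Gj)
  obtain ⟨_, _, _⟩ := fp_unit (D.obj i)
  obtain ⟨i₁, b₁, h₁⟩ := exists_map_eq D c hc i _ _ e₁
  obtain ⟨i₂, b₂, h₂⟩ := exists_map_eq D c hc i _ _ e₂
  obtain ⟨k, d₁, d₂, e⟩ := IsCofiltered.cospan b₁ b₂
  have h₁' := map_eq_congr (D.map_comp d₁ b₁).symm _ _
    (map_eq_comp (D.map b₁) (D.map d₁) _ _ h₁)
  have h₂' := map_eq_congr ((D.map_comp d₂ b₂).symm.trans (congrArg D.map e.symm)) _ _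
    (map_eq_comp (D.map b₂) (D.map d₂) _ _ h₂)
  have hmon' : IsMonHom ((Over.pullback (D.map (d₁ ≫ b₁))).map ui) :=
    (isMonHom_map_iff _ ui).mpr ⟨h₁', h₂'⟩
  obtain ⟨b, hb⟩ : ∃ b : k ⟶ i, b = d₁ ≫ b₁ := ⟨_, rfl⟩
  rw [← hb] at hmon'
  refine ⟨k, b ≫ a, (bcCompIso (D.map b) (D.map a) (D.map_comp b a).symm Gj).inv ≫
    (Over.pullback (D.map b)).map ui ≫
      (bcCompIso (D.map b) (D.map a) (D.map_comp b a).symm Hj).hom, inferInstance, ?_⟩
  have cocy : ∀ X : Over (D.obj j),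
      (Over.pullback (c.π.app k)).map
          (bcCompIso (D.map b) (D.map a) (D.map_comp b a).symm X).hom ≫
        (bcCompIso (c.π.app k) (D.map (b ≫ a)) (c.w (b ≫ a)) X).hom =
      (bcCompIso (c.π.app k) (D.map b) (c.w b) ((Over.pullback (D.map a)).obj X)).hom ≫
        (bcCompIso (c.π.app i) (D.map a) (c.w a) X).hom :=
    fun X => bcCompIso_cocycle _ _ _ _ _ _ _ X
  have hui' : (Over.pullback (c.π.app i)).map ui ≫
      (bcCompIso (c.π.app i) (D.map a) (c.w a) Hj).hom =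
        (bcCompIso (c.π.app i) (D.map a) (c.w a) Gj).hom ≫ u := by
    rw [hui, Category.assoc, Category.assoc, Iso.inv_hom_id, Category.comp_id]
  have main : (Over.pullback (c.π.app k)).map
      ((bcCompIso (D.map b) (D.map a) (D.map_comp b a).symm Gj).inv ≫
        (Over.pullback (D.map b)).map ui ≫
          (bcCompIso (D.map b) (D.map a) (D.map_comp b a).symm Hj).hom) ≫
      (bcCompIso (c.π.app k) (D.map (b ≫ a)) (c.w (b ≫ a)) Hj).hom =
        (bcCompIso (c.π.app k) (D.map (b ≫ a)) (c.w (b ≫ a)) Gj).hom ≫ u := by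
    rw [(Over.pullback (c.π.app k)).map_comp, (Over.pullback (c.π.app k)).map_comp,
      Category.assoc, Category.assoc, cocy Hj,
      bcCompIso_hom_naturality_assoc, hui', ← reassoc_of% (cocy Gj),
      ← (Over.pullback (c.π.app k)).map_comp_assoc,
      Iso.inv_hom_id, CategoryTheory.Functor.map_id, Category.id_comp]
  rw [(Iso.eq_comp_inv _).mpr main, Category.assoc]

include hc in
theorem main3 :
    (∀ (u : Red.bc (c.π.app j) Gj ⟶ Red.bc (c.π.app j) Hj), IsMonHom u →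
      ∃ (i : I) (f : i ⟶ j) (ui : Red.bc (D.map f) Gj ⟶ Red.bc (D.map f) Hj), IsMonHom ui ∧
        (Over.pullback (c.π.app i)).map ui = (((Over.pullbackComp (c.π.app i) (D.map f)).app Gj).symm ≪≫ eqToIso (congrArg (fun g => Red.bc g Gj) (c.w f))).hom ≫ u ≫ (((Over.pullbackComp (c.π.app i) (D.map f)).app Hj).symm ≪≫ eqToIso (congrArg (fun g => Red.bc g Hj) (c.w f))).inv) ∧
    (∀ (i : I) (f : i ⟶ j) (u₁ u₂ : Red.bc (D.map f) Gj ⟶ Red.bc (D.map f) Hj), IsMonHom u₁ → IsMonHom u₂ →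
      (Over.pullback (c.π.app i)).map u₁ = (Over.pullback (c.π.app i)).map u₂ →
      ∃ (i' : I) (g : i' ⟶ i), (Over.pullback (D.map g)).map u₁ = (Over.pullback (D.map g)).map u₂) := by
  refine ⟨fun u hu => ?_, fun i f u₁ u₂ _ _ h => ?_⟩
  · exact exists_monHom_descent D c hc j Gj Hj u
  · obtain ⟨_, _, _⟩ := fp_bc (D.map f) Gj
    obtain ⟨_, _, _⟩ := fp_bc (D.map f) Hj
    exact exists_map_eq D c hc i u₁ u₂ h

end Groth.Agent.Lib.Helper28.SubGrp
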