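import Mathlib
import Groth.Prelude.Def_Red
import Groth.Agent.Lib.Helper12.ConsPairProper
import Groth.Agent.Lib.Helper28.SubGrp.Main
import Groth.Agent.Lib.Helper28.SubGrp.GrpDesc
import Groth.Agent.Lib.Helper28.SubGrp.HomDesc

/-!
# Spreading out closed subgroups from `Spec 𝒪_{X,x}` to an affine neighbourhood of `x`
-/

set_option autoImplicit false
universe u

namespace Groth.Agent.Lib.Helper28.SubGrp

open CategoryTheory CategoryTheory.Limits AlgebraicGeometry MonoidalCategory
  CartesianMonoidalCategory MonObj GrpObj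
open Groth.Agent.Lib.Helper18 Groth.Agent.Lib.Helper12
open scoped Obj

section DescProp

variable {I : Type u} [SmallCategory I] [IsCofiltered I]
  (D : I ⥤ Scheme.{u}) (c : Limits.Cone D) (hc : Limits.IsLimit c)
  [∀ (i j : I) (a : i ⟶ j), IsAffineHom (D.map a)] (i₀ : I) [CompactSpace (D.obj i₀)]
  [QuasiSeparatedSpace (D.obj i₀)]
  {T₀ Y₀ : Over (D.obj i₀)} (ψ : T₀ ⟶ Y₀)

include hc in
/-- A property of morphisms that descends through limits (in helper12's sense) descends in
`Over.pullback` language. -/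
theorem exists_prop_map (Q : MorphismProperty Scheme.{u}) [Q.IsStableUnderBaseChange]
    (hQ : ConsPairGen.DescendsLim Q)
    [LocallyOfFinitePresentation T₀.hom] [QuasiCompact T₀.hom] [QuasiSeparated T₀.hom]
    [LocallyOfFinitePresentation Y₀.hom] [QuasiCompact Y₀.hom] [QuasiSeparated Y₀.hom]
    (h : Q ((Over.pullback (c.π.app i₀)).map ψ).left) :
    ∃ (i : I) (a : i ⟶ i₀), Q ((Over.pullback (D.map a)).map ψ).left := by
  have e : ψ.left ≫ Y₀.hom = T₀.hom := Over.w ψ
  have : LocallyOfFinitePresentation (ψ.left ≫ Y₀.hom) := by rw [e]; infer_instance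
  have : QuasiCompact (ψ.left ≫ Y₀.hom) := by rw [e]; infer_instance
  have : QuasiSeparated (ψ.left ≫ Y₀.hom) := by rw [e]; infer_instance
  obtain ⟨j, a, Xj, Yj, fj, gj, pY, pX, hY, hX, hq⟩ :=
    hQ D c hc i₀ ψ.left Y₀.hom ((Over.pullback (c.π.app i₀)).map ψ).left
      (pullback.snd Y₀.hom (c.π.app i₀)) (pullback.fst Y₀.hom (c.π.app i₀))
      (pullback.fst T₀.hom (c.π.app i₀))
      (IsPullback.of_hasPullback _ _) (isPullback_map_left (c.π.app i₀) ψ).flip h
  refine ⟨j, a, ?_⟩
  have he₁ : hY.isoPullback.inv ≫ pY = pullback.fst Y₀.hom (D.map a) :=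
    hY.isoPullback_inv_fst
  have hw : pullback.fst T₀.hom (D.map a) ≫ ψ.left =
      (((Over.pullback (D.map a)).map ψ).left ≫ hY.isoPullback.inv) ≫ pY := by
    rw [Category.assoc, he₁, map_left_fst]
  have hk₁ : hX.lift (pullback.fst T₀.hom (D.map a))
      (((Over.pullback (D.map a)).map ψ).left ≫ hY.isoPullback.inv) hw ≫ pX =
        pullback.fst T₀.hom (D.map a) := hX.lift_fst _ _ _
  have hk₂ : hX.lift (pullback.fst T₀.hom (D.map a))
      (((Over.pullback (D.map a)).map ψ).left ≫ hY.isoPullback.inv) hw ≫ fj =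
        ((Over.pullback (D.map a)).map ψ).left ≫ hY.isoPullback.inv := hX.lift_snd _ _ _
  have sq : IsPullback (hX.lift (pullback.fst T₀.hom (D.map a))
      (((Over.pullback (D.map a)).map ψ).left ≫ hY.isoPullback.inv) hw)
      ((Over.pullback (D.map a)).map ψ).left fj hY.isoPullback.inv := by
    refine IsPullback.of_right ?_ hk₂ hX
    rw [hk₁, he₁]
    exact (isPullback_map_left (D.map a) ψ).flip
  exact Q.of_isPullback sq hq

end DescProp

section Transport

universe v₁ u₁
variable {C : Type u₁} [Category.{v₁} C] [CartesianMonoidalCategory C]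

theorem isMonHom_inv_grpObjOfIso {G B : C} [GrpObj G] (e : G ≅ B) :
    letI := grpObjOfIso e
    IsMonHom e.inv := by
  letI := grpObjOfIso e
  refine ⟨?_, ?_⟩
  · show (η[G] ≫ e.hom) ≫ e.inv = η[G]
    simp
  · show ((e.inv ⊗ₘ e.inv) ≫ μ[G] ≫ e.hom) ≫ e.inv = (e.inv ⊗ₘ e.inv) ≫ μ[G]
    simp

end Transport

section Spread

variable {I : Type u} [SmallCategory I] [IsCofiltered I]
  (D : I ⥤ Scheme.{u}) (c : Limits.Cone D) (hc : Limits.IsLimit c)
  [∀ (i i' : I) (f : i ⟶ i'), IsAffineHom (D.map f)] [∀ i, CompactSpace (D.obj i)]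
  [∀ i, QuasiSeparatedSpace (D.obj i)]
  {S : Scheme.{u}} (t : ∀ W : I, D.obj W ⟶ S)
  (ht : ∀ {W' W : I} (b : W' ⟶ W), D.map b ≫ t W = t W')
  (ηm : c.pt ⟶ S) (hη : ∀ W : I, c.π.app W ≫ t W = ηm)
  (G : Over S) [GrpObj G] [IsAffineHom G.hom] [LocallyOfFinitePresentation G.hom]
  (Hη : Over c.pt) (i : Hη ⟶ (Over.pullback ηm).obj G)

omit [IsCofiltered I] [∀ (i i' : I) (f : i ⟶ i'), IsAffineHom (D.map f)]
  [∀ i, CompactSpace (D.obj i)] [∀ i, QuasiSeparatedSpace (D.obj i)] [GrpObj G] in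
theorem fp_G (W : I) :
    LocallyOfFinitePresentation ((Over.pullback (t W)).obj G).hom ∧
      IsAffineHom ((Over.pullback (t W)).obj G).hom := by
  refine ⟨?_, ?_⟩
  · show LocallyOfFinitePresentation (pullback.snd G.hom (t W)); infer_instance
  · show IsAffineHom (pullback.snd G.hom (t W))
    exact MorphismProperty.pullback_snd (P := @IsAffineHom) _ _ inferInstance

/-- a representative of `Hη → G_η` at a stage -/
structure SRep where
  W : I
  H : Over (D.obj W)
  lfp : LocallyOfFinitePresentation H.hom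
  qc : QuasiCompact H.hom
  qs : QuasiSeparated H.hom
  j : H ⟶ (Over.pullback (t W)).obj G
  Ψ : Hη ≅ (Over.pullback (c.π.app W)).obj H
  star : i ≫ (bcCompIso (c.π.app W) (t W) (hη W) G).inv =
    Ψ.hom ≫ (Over.pullback (c.π.app W)).map j

attribute [instance] SRep.lfp SRep.qc SRep.qs

variable {D c t ηm hη G Hη i}

/-- restriction of a representative to a later stage -/
noncomputable def SRep.restage (R : SRep D c t ηm hη G Hη i) {W' : I} (b : W' ⟶ R.W) :
    SRep D c t ηm hη G Hη i where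
  W := W'
  H := (Over.pullback (D.map b)).obj R.H
  lfp := (fp_bc (D.map b) R.H).1
  qc := (fp_bc (D.map b) R.H).2.1
  qs := (fp_bc (D.map b) R.H).2.2
  j := (Over.pullback (D.map b)).map R.j ≫ (bcCompIso (D.map b) (t R.W) (ht b) G).hom
  Ψ := R.Ψ ≪≫ (bcCompIso (c.π.app W') (D.map b) (c.w b) R.H).symm
  star := by
    rw [Iso.comp_inv_eq]
    simp only [Iso.trans_hom, Iso.symm_hom, Functor.map_comp, Category.assoc]
    rw [bcCompIso_cocycle (c.π.app W') (D.map b) (t R.W) (c.w b) (ht b) (hη W') (hη R.W) G,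
      bcCompIso_hom_naturality_assoc, Iso.inv_hom_id_assoc, ← Category.assoc, ← R.star,
      Category.assoc, Iso.inv_hom_id, Category.comp_id]

theorem SRep.map_j_eq (R : SRep D c t ηm hη G Hη i) :
    (Over.pullback (c.π.app R.W)).map R.j =
      R.Ψ.inv ≫ i ≫ (bcCompIso (c.π.app R.W) (t R.W) (hη R.W) G).inv := by
  rw [R.star, Iso.inv_hom_id_assoc]

theorem SRep.isClosedImmersion_map_left [IsClosedImmersion i.left]
    (R : SRep D c t ηm hη G Hη i) :
    IsClosedImmersion ((Over.pullback (c.π.app R.W)).map R.j).left := by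
  rw [R.map_j_eq, Over.comp_left, Over.comp_left]
  have : IsIso R.Ψ.inv.left := inferInstanceAs (IsIso ((Over.forget _).map R.Ψ.inv))
  have : IsIso (bcCompIso (c.π.app R.W) (t R.W) (hη R.W) G).inv.left :=
    inferInstanceAs (IsIso ((Over.forget _).map
      (bcCompIso (c.π.app R.W) (t R.W) (hη R.W) G).inv))
  infer_instance

variable (D c t ηm hη G Hη i)

include hc ht in
theorem exists_rep [LocallyOfFinitePresentation Hη.hom] [QuasiCompact Hη.hom]
    [QuasiSeparated Hη.hom] : Nonempty (SRep D c t ηm hη G Hη i) := by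
  obtain ⟨M⟩ := exists_model D c hc Hη
  obtain ⟨_, _⟩ := fp_G D t G M.i
  obtain ⟨u, hu⟩ : ∃ u : (Over.pullback (c.π.app M.i)).obj M.G₀ ⟶
      (Over.pullback (c.π.app M.i)).obj ((Over.pullback (t M.i)).obj G),
      u = M.e.inv ≫ i ≫ (bcCompIso (c.π.app M.i) (t M.i) (hη M.i) G).inv :=
    ⟨_, rfl⟩
  obtain ⟨W₂, a, u₂, hu₂⟩ := exists_hom_descent D c hc M.i
    M.G₀ ((Over.pullback (t M.i)).obj G) u
  refine ⟨{ W := W₂
            H := (Over.pullback (D.map a)).obj M.G₀
            lfp := (fp_bc (D.map a) M.G₀).1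
            qc := (fp_bc (D.map a) M.G₀).2.1
            qs := (fp_bc (D.map a) M.G₀).2.2
            j := u₂ ≫ (bcCompIso (D.map a) (t M.i) (ht a) G).hom
            Ψ := M.e ≪≫ (bcCompIso (c.π.app W₂) (D.map a) (c.w a) M.G₀).symm
            star := ?_ }⟩
  rw [Iso.comp_inv_eq]
  simp only [Iso.trans_hom, Iso.symm_hom, Functor.map_comp, Category.assoc]
  rw [bcCompIso_cocycle (c.π.app W₂) (D.map a) (t M.i) (c.w a) (ht a) (hη W₂) (hη M.i) G,
    hu₂, hu]
  simp only [Category.assoc, Iso.inv_hom_id_assoc, Iso.inv_hom_id, Category.comp_id,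
    Iso.hom_inv_id_assoc]

include hc ht in
theorem exists_rep_closedImmersion [IsClosedImmersion i.left]
    [LocallyOfFinitePresentation Hη.hom] [QuasiCompact Hη.hom] [QuasiSeparated Hη.hom] :
    ∃ R : SRep D c t ηm hη G Hη i, IsClosedImmersion R.j.left := by
  obtain ⟨R⟩ := exists_rep D c hc t ht ηm hη G Hη i
  obtain ⟨_, _⟩ := fp_G D t G R.W
  obtain ⟨W', b, hci⟩ := exists_prop_map D c hc R.W R.j
    @IsClosedImmersion ConsPairGen.descendsLim_isClosedImmersion R.isClosedImmersion_map_left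
  refine ⟨R.restage ht b, ?_⟩
  show IsClosedImmersion (((Over.pullback (D.map b)).map R.j ≫
    (bcCompIso (D.map b) (t R.W) (ht b) G).hom).left)
  rw [Over.comp_left]
  have := hci
  have : IsIso (bcCompIso (D.map b) (t R.W) (ht b) G).hom.left :=
    inferInstanceAs (IsIso ((Over.forget _).map
      (bcCompIso (D.map b) (t R.W) (ht b) G).hom))
  infer_instance

include hc ht hη in
/-- **Spreading out closed subgroups.** -/
theorem spread_closed_subgroup [instH : GrpObj Hη] [IsMonHom i] [IsClosedImmersion i.left]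
    [LocallyOfFinitePresentation Hη.hom] [QuasiCompact Hη.hom] [QuasiSeparated Hη.hom] :
    ∃ (W : I) (HU : Over (D.obj W)) (_ : GrpObj HU)
      (j : HU ⟶ (Over.pullback (t W)).obj G) (φ : Hη.left ⟶ HU.left),
      IsMonHom j ∧ IsClosedImmersion j.left ∧
        IsPullback φ Hη.hom HU.hom (c.π.app W) ∧
        φ ≫ j.left ≫ pullback.fst G.hom (t W) = i.left ≫ pullback.fst G.hom ηm := by
  obtain ⟨R, hR⟩ := exists_rep_closedImmersion D c hc t ht ηm hη G Hη i
  obtain ⟨_, _⟩ := fp_G D t G R.W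
  have e1 : R.j.left ≫ ((Over.pullback (t R.W)).obj G).hom = R.H.hom := Over.w R.j
  have : LocallyOfFinitePresentation
      (R.j.left ≫ ((Over.pullback (t R.W)).obj G).hom) := by rw [e1]; infer_instance
  have : LocallyOfFinitePresentation R.j.left :=
    locallyOfFinitePresentation_of_comp R.j.left ((Over.pullback (t R.W)).obj G).hom
  have hH : ∃ _ : GrpObj (Red.bc (c.π.app R.W) R.H),
      IsMonHom ((Over.pullback (c.π.app R.W)).map R.j) := by
    let inst : GrpObj ((Over.pullback (c.π.app R.W)).obj R.H) := grpObjOfIso R.Ψ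
    refine ⟨inst, ?_⟩
    have : IsMonHom R.Ψ.inv := isMonHom_inv_grpObjOfIso R.Ψ
    rw [R.map_j_eq]
    infer_instance
  obtain ⟨⟨W', d, inst, hmon⟩, -⟩ := main (D := D) (c := c)
    (hc := hc) (i₀ := R.W) (G₀ := (Over.pullback (t R.W)).obj G) (H₀ := R.H)
    (ι₀ := R.j) hH
  obtain ⟨Ψ', hΨ'⟩ : ∃ Ψ' : Hη ≅ (Over.pullback (c.π.app W')).obj
      ((Over.pullback (D.map d)).obj R.H),
      Ψ' = R.Ψ ≪≫ (bcCompIso (c.π.app W') (D.map d) (c.w d) R.H).symm := ⟨_, rfl⟩
  obtain ⟨j', hj'⟩ : ∃ j' : (Over.pullback (D.map d)).obj R.H ⟶ (Over.pullback (t W')).obj G,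
      j' = (Over.pullback (D.map d)).map R.j ≫ (bcCompIso (D.map d) (t R.W) (ht d) G).hom :=
    ⟨_, rfl⟩
  have star' : i ≫ (bcCompIso (c.π.app W') (t W') (hη W') G).inv =
      Ψ'.hom ≫ (Over.pullback (c.π.app W')).map j' := by
    rw [hΨ', hj']
    exact (R.restage ht d).star
  refine ⟨W', (Over.pullback (D.map d)).obj R.H, inst, j',
    Ψ'.hom.left ≫ pullback.fst ((Over.pullback (D.map d)).obj R.H).hom (c.π.app W'),
    ?_, ?_, ?_, ?_⟩
  · rw [hj']
    infer_instance
  · rw [hj', Over.comp_left]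
    have : IsClosedImmersion ((Over.pullback (D.map d)).map R.j).left :=
      map_left_of_stableUnderBaseChange @IsClosedImmersion _ _ hR
    have : IsIso (bcCompIso (D.map d) (t R.W) (ht d) G).hom.left :=
      inferInstanceAs (IsIso ((Over.forget _).map
        (bcCompIso (D.map d) (t R.W) (ht d) G).hom))
    infer_instance
  · refine IsPullback.of_iso_pullback ⟨?_⟩ ((Over.forget _).mapIso Ψ') rfl ?_
    · rw [Category.assoc, pullback.condition, ← Category.assoc]
      congr 1
      exact Over.w Ψ'.hom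
    · exact Over.w Ψ'.hom
  · have hs := congrArg (fun f => f.left ≫ pullback.fst
      ((Over.pullback (t W')).obj G).hom (c.π.app W') ≫ pullback.fst G.hom (t W')) star'
    simp only [Over.comp_left, Category.assoc] at hs
    rw [map_left_fst_assoc] at hs
    rw [Category.assoc, ← hs]
    congr 1
    have h3 := bcCompIso_hom_left_fst (c.π.app W') (t W') (hη W') G
    have h4 : (bcCompIso (c.π.app W') (t W') (hη W') G).inv.left ≫
        (bcCompIso (c.π.app W') (t W') (hη W') G).hom.left = 𝟙 _ := by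
      rw [← Over.comp_left, Iso.inv_hom_id]; rfl
    rw [← h3, reassoc_of% h4]

end Spread

end Groth.Agent.Lib.Helper28.SubGrp
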