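import Mathlib
import Groth.Prelude.Def_Red
import Groth.Agent.S2075
import Groth.Agent.S2581
import Groth.Agent.Lib.Helper12.FpDesc
import Groth.Agent.Lib.Helper28.SubGrp.IsoDesc
import Groth.Agent.Lib.Helper28.SubGrp.GrpDesc

/-!
# Torsors over a cofiltered limit are torsors at a stage
-/

set_option autoImplicit false
universe u

namespace Groth.Agent.Lib.Helper28.SubGrp

open CategoryTheory CategoryTheory.Limits AlgebraicGeometry MonoidalCategory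
  CartesianMonoidalCategory MonObj GrpObj
open Groth.Agent.Lib.Helper18
open scoped Obj

section Cov

variable {S S' S'' : Scheme.{u}}

/-- the structure morphism of the base change of `X` along `g` is covering for the fppf
topology -/
def Cov (g : S' ⟶ S) (X : Over S) : Prop :=
  ∃ (Z : Scheme.{u}) (v : Z ⟶ S') (w : Z ⟶ ((Over.pullback g).obj X).left),
    w ≫ ((Over.pullback g).obj X).hom = v ∧ Flat v ∧ Surjective v ∧
      LocallyOfFinitePresentation v ∧ QuasiCompact v ∧ QuasiSeparated v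

theorem cov_comp (g : S' ⟶ S) (h : S'' ⟶ S') (X : Over S) (hc : Cov g X) :
    Cov (h ≫ g) X := by
  obtain ⟨Z, v, w, hw, _, _, _, _, _⟩ := hc
  have hw' : w ≫ pullback.snd X.hom g = v := hw
  refine ⟨pullback v h, pullback.snd v h,
    pullback.lift (pullback.fst v h ≫ w ≫ pullback.fst X.hom g) (pullback.snd v h) ?_, ?_,
    inferInstance, inferInstance, inferInstance, inferInstance, inferInstance⟩
  · rw [Category.assoc, Category.assoc, pullback.condition, reassoc_of% hw',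
      pullback.condition_assoc]
  · exact pullback.lift_snd _ _ _

theorem cov_congr {g g' : S' ⟶ S} (e : g = g') {X : Over S} (hc : Cov g X) : Cov g' X := by
  subst e
  exact hc

theorem prop_congr (P : MorphismProperty Scheme.{u}) {g g' : S' ⟶ S} (e : g = g') (X : Over S)
    (h : P (pullback.snd X.hom g)) : P (pullback.snd X.hom g') := by
  subst e
  exact h

theorem bc_comp_of_stable (P : MorphismProperty Scheme.{u}) [P.RespectsIso]
    [P.IsStableUnderBaseChange] (g : S' ⟶ S) (h : S'' ⟶ S') (X : Over S)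
    (hP : P (pullback.snd X.hom g)) : P (pullback.snd X.hom (h ≫ g)) := by
  have e : (bcCompIso h g rfl X).inv.left ≫ pullback.snd (pullback.snd X.hom g) h =
      pullback.snd X.hom (h ≫ g) := Over.w (bcCompIso h g rfl X).inv
  have : IsIso (bcCompIso h g rfl X).inv.left :=
    (Over.forget _).map_isIso (bcCompIso h g rfl X).inv
  rw [← e]
  exact (P.cancel_left_of_respectsIso _ _).mpr (P.pullback_snd _ _ hP)

end Cov

section Lim

variable {I : Type u} [SmallCategory I] [IsCofiltered I]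
  (D : I ⥤ Scheme.{u}) (c : Limits.Cone D) (hc : Limits.IsLimit c)
  [∀ (i i' : I) (f : i ⟶ i'), IsAffineHom (D.map f)] [∀ i, CompactSpace (D.obj i)]
  [∀ i, QuasiSeparatedSpace (D.obj i)] (i₀ : I)

include hc in
theorem exists_flat_stage (𝒵 : Over (D.obj i₀)) [LocallyOfFinitePresentation 𝒵.hom]
    [QuasiCompact 𝒵.hom] [QuasiSeparated 𝒵.hom]
    (h : Flat (pullback.snd 𝒵.hom (c.π.app i₀))) :
    ∃ (i : I) (a : i ⟶ i₀), Flat (pullback.snd 𝒵.hom (D.map a)) := by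
  have : CompactSpace 𝒵.left := QuasiCompact.compactSpace_of_compactSpace 𝒵.hom
  have : QuasiSeparatedSpace 𝒵.left := quasiSeparatedSpace_of_quasiSeparated 𝒵.hom
  have hY : IsPullback (c.π.app i₀) (𝟙 c.pt) (𝟙 (D.obj i₀)) (c.π.app i₀) :=
    IsPullback.id_vert (c.π.app i₀)
  obtain ⟨i, φ, Xi, Yi, fi, gi, pY, pX, hYi, hXi, hflat⟩ :=
    Groth.Agent.S2075.result D c hc i₀ 𝒵.hom (𝟙 (D.obj i₀)) (pullback.snd 𝒵.hom (c.π.app i₀))
      (𝟙 c.pt) (c.π.app i₀) (pullback.fst 𝒵.hom (c.π.app i₀)) hY (IsPullback.of_hasPullback _ _)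
  refine ⟨i, φ, ?_⟩
  have hgi : IsIso gi := hYi.isIso_snd_of_isIso
  have hp := hXi.paste_vert hYi
  rw [Category.comp_id] at hp
  have e : hp.isoPullback.hom ≫ pullback.snd 𝒵.hom (D.map φ) = fi ≫ gi :=
    hp.isoPullback_hom_snd
  have e' : pullback.snd 𝒵.hom (D.map φ) = hp.isoPullback.inv ≫ fi ≫ gi :=
    (Iso.eq_inv_comp _).mpr e
  rw [e']
  infer_instance

include hc in
theorem exists_surjective_stage (𝒵 : Over (D.obj i₀)) [LocallyOfFinitePresentation 𝒵.hom]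
    [QuasiCompact 𝒵.hom] [QuasiSeparated 𝒵.hom]
    (h : Surjective (pullback.snd 𝒵.hom (c.π.app i₀))) :
    ∃ (i : I) (a : i ⟶ i₀), Surjective (pullback.snd 𝒵.hom (D.map a)) := by
  have hY : IsPullback (c.π.app i₀) (𝟙 c.pt) (𝟙 (D.obj i₀)) (c.π.app i₀) :=
    IsPullback.id_vert (c.π.app i₀)
  obtain ⟨i, φ, Xi, Yi, fi, gi, pY, pX, hYi, hXi, hsurj⟩ :=
    Groth.Agent.S2581.result D c hc i₀ 𝒵.hom (𝟙 (D.obj i₀)) (pullback.snd 𝒵.hom (c.π.app i₀))
      (𝟙 c.pt) (c.π.app i₀) (pullback.fst 𝒵.hom (c.π.app i₀)) hY (IsPullback.of_hasPullback _ _)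
  refine ⟨i, φ, ?_⟩
  have hgi : IsIso gi := hYi.isIso_snd_of_isIso
  have hp := hXi.paste_vert hYi
  rw [Category.comp_id] at hp
  have e : hp.isoPullback.hom ≫ pullback.snd 𝒵.hom (D.map φ) = fi ≫ gi :=
    hp.isoPullback_hom_snd
  have e' : pullback.snd 𝒵.hom (D.map φ) = hp.isoPullback.inv ≫ fi ≫ gi :=
    (Iso.eq_inv_comp _).mpr e
  rw [e']
  infer_instance

variable {i₀}

omit [IsCofiltered I] [∀ (i i' : I) (f : i ⟶ i'), IsAffineHom (D.map f)]
  [∀ i, CompactSpace (D.obj i)] [∀ i, QuasiSeparatedSpace (D.obj i)]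

theorem stable_prop (P : MorphismProperty Scheme.{u}) [P.RespectsIso]
    [P.IsStableUnderBaseChange] (𝒵 : Over (D.obj i₀)) :
    Stable (fun i' (b : i' ⟶ i₀) => P (pullback.snd 𝒵.hom (D.map b))) :=
  fun _ _ b d h => prop_congr P (D.map_comp d b).symm 𝒵
    (bc_comp_of_stable P (D.map b) (D.map d) 𝒵 h)

theorem stable_hom (𝒵 𝒳 : Over (D.obj i₀)) :
    Stable (fun i' (b : i' ⟶ i₀) =>
      Nonempty ((Over.pullback (D.map b)).obj 𝒵 ⟶ (Over.pullback (D.map b)).obj 𝒳)) :=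
  fun _ _ b d ⟨ω⟩ =>
    ⟨(bcCompIso (D.map d) (D.map b) (D.map_comp d b).symm 𝒵).inv ≫
      (Over.pullback (D.map d)).map ω ≫
        (bcCompIso (D.map d) (D.map b) (D.map_comp d b).symm 𝒳).hom⟩

theorem stable_cov (X : Over (D.obj i₀)) :
    Stable (fun i' (b : i' ⟶ i₀) => Cov (D.map b) X) :=
  fun _ _ b d h => cov_congr (D.map_comp d b).symm (cov_comp (D.map b) (D.map d) X h)

theorem stable_isIso {T₀ Y₀ : Over (D.obj i₀)} (ψ : T₀ ⟶ Y₀) :
    Stable (fun i' (b : i' ⟶ i₀) => IsIso ((Over.pullback (D.map b)).map ψ)) :=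
  fun _ _ b d h => isIso_map_congr ψ (D.map_comp d b).symm
    (by haveI := h; exact isIso_map_comp (D.map b) (D.map d) ψ)

variable [IsCofiltered I] [∀ (i i' : I) (f : i ⟶ i'), IsAffineHom (D.map f)]
  [∀ i, CompactSpace (D.obj i)] [∀ i, QuasiSeparatedSpace (D.obj i)]

include hc in
/-- **fppf coverings descend to a stage.** -/
theorem exists_cov (j : I) (Xj : Over (D.obj j)) [LocallyOfFinitePresentation Xj.hom]
    (h : Cov (c.π.app j) Xj) : ∃ (i : I) (a : i ⟶ j), Cov (D.map a) Xj := by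
  have hD : ∀ {i j : I} (f : i ⟶ j), IsAffineHom (D.map f) := fun f => inferInstance
  obtain ⟨Z, v, w, hw, hflat, hsurj, hlfp, hqc, hqs⟩ := h
  obtain ⟨i₁, Z₁, v₁, g₁, h1, h2, h3, hP⟩ :=
    Groth.Agent.Lib.Helper12.FpDesc.descends_of_fp (D := D) (c := c) hc v
  obtain ⟨i₂, a₁, a, -⟩ : ∃ (i₂ : I) (a₁ : i₂ ⟶ i₁) (a : i₂ ⟶ j), True :=
    ⟨IsCofiltered.min i₁ j, IsCofiltered.minToLeft i₁ j, IsCofiltered.minToRight i₁ j, trivial⟩
  obtain ⟨𝒵₁, h𝒵₁⟩ : ∃ 𝒵₁ : Over (D.obj i₁), 𝒵₁ = Over.mk v₁ := ⟨_, rfl⟩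
  have : LocallyOfFinitePresentation 𝒵₁.hom := by rw [h𝒵₁]; exact h1
  have : QuasiCompact 𝒵₁.hom := by rw [h𝒵₁]; exact h2
  have : QuasiSeparated 𝒵₁.hom := by rw [h𝒵₁]; exact h3
  have ζ : Over.mk v ≅ (Over.pullback (c.π.app i₁)).obj 𝒵₁ := by
    rw [h𝒵₁]
    exact Over.isoMk hP.isoPullback hP.isoPullback_hom_snd
  obtain ⟨_, _, _⟩ := fp_bc (D.map a₁) 𝒵₁
  obtain ⟨𝒵₂, h𝒵₂⟩ : ∃ 𝒵₂ : Over (D.obj i₂), 𝒵₂ = (Over.pullback (D.map a₁)).obj 𝒵₁ :=
    ⟨_, rfl⟩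
  have : LocallyOfFinitePresentation 𝒵₂.hom := by rw [h𝒵₂]; infer_instance
  have : QuasiCompact 𝒵₂.hom := by rw [h𝒵₂]; infer_instance
  have : QuasiSeparated 𝒵₂.hom := by rw [h𝒵₂]; infer_instance
  have κ : (Over.pullback (c.π.app i₂)).obj 𝒵₂ ≅ Over.mk v := by
    rw [h𝒵₂]
    exact bcCompIso (c.π.app i₂) (D.map a₁) (c.w a₁) 𝒵₁ ≪≫ ζ.symm
  obtain ⟨𝒳₂, h𝒳₂⟩ : ∃ 𝒳₂ : Over (D.obj i₂), 𝒳₂ = (Over.pullback (D.map a)).obj Xj := ⟨_, rfl⟩
  have : LocallyOfFinitePresentation 𝒳₂.hom := by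
    rw [h𝒳₂]
    show LocallyOfFinitePresentation (pullback.snd Xj.hom (D.map a)); infer_instance
  have θX : (Over.pullback (c.π.app i₂)).obj 𝒳₂ ≅ (Over.pullback (c.π.app j)).obj Xj := by
    rw [h𝒳₂]
    exact bcCompIso (c.π.app i₂) (D.map a) (c.w a) Xj
  have s1 : ∃ (i : I) (b : i ⟶ i₂), Nonempty ((Over.pullback (D.map b)).obj 𝒵₂ ⟶
      (Over.pullback (D.map b)).obj 𝒳₂) := by
    obtain ⟨i, b, ω', -⟩ := exists_hom_descent D c hc i₂ 𝒵₂ 𝒳₂
      (κ.hom ≫ Over.homMk w hw ≫ θX.inv)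
    exact ⟨i, b, ⟨ω'⟩⟩
  have hκ : pullback.snd 𝒵₂.hom (c.π.app i₂) = κ.hom.left ≫ v := (Over.w κ.hom).symm
  have : IsIso κ.hom.left := (Over.forget _).map_isIso κ.hom
  have s2 : ∃ (i : I) (b : i ⟶ i₂), Flat (pullback.snd 𝒵₂.hom (D.map b)) :=
    exists_flat_stage D c hc i₂ 𝒵₂ (by rw [hκ]; infer_instance)
  have s3 : ∃ (i : I) (b : i ⟶ i₂), Surjective (pullback.snd 𝒵₂.hom (D.map b)) :=
    exists_surjective_stage D c hc i₂ 𝒵₂ (by rw [hκ]; infer_instance)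
  obtain ⟨i, b, ⟨⟨ω'⟩, hf⟩, hs⟩ := exists_and_stage
    (Stable.and (stable_hom D 𝒵₂ 𝒳₂) (stable_prop D @Flat 𝒵₂)) (stable_prop D @Surjective 𝒵₂)
    (exists_and_stage (stable_hom D 𝒵₂ 𝒳₂) (stable_prop D @Flat 𝒵₂) s1 s2) s3
  refine ⟨i, b ≫ a, ?_⟩
  obtain ⟨_, _, _⟩ := fp_bc (D.map b) 𝒵₂
  subst h𝒳₂
  refine ⟨((Over.pullback (D.map b)).obj 𝒵₂).left, ((Over.pullback (D.map b)).obj 𝒵₂).hom,
    (ω' ≫ (bcCompIso (D.map b) (D.map a) (D.map_comp b a).symm Xj).hom).left,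
    Over.w (ω' ≫ (bcCompIso (D.map b) (D.map a) (D.map_comp b a).symm Xj).hom), hf, hs,
    inferInstance, inferInstance, inferInstance⟩

end Lim

theorem main_torsor {I : Type u} [SmallCategory I] [IsCofiltered I]
    (D : I ⥤ Scheme.{u}) (c : Limits.Cone D) (hc : Limits.IsLimit c)
    [∀ (i i' : I) (f : i ⟶ i'), IsAffineHom (D.map f)] [∀ i, CompactSpace (D.obj i)] [∀ i, QuasiSeparatedSpace (D.obj i)]
    (j : I) (Gj Xj : Over (D.obj j)) [GrpObj Gj] (act : AlgGrp.Action Gj Xj)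
    [LocallyOfFinitePresentation Gj.hom] [QuasiCompact Gj.hom] [QuasiSeparated Gj.hom]
    [LocallyOfFinitePresentation Xj.hom] [QuasiCompact Xj.hom] [QuasiSeparated Xj.hom] :
    (IsIso (lift (Functor.LaxMonoidal.μ (Over.pullback (c.π.app j)) Gj Xj ≫ (Over.pullback (c.π.app j)).map act.act) (snd (Red.bc (c.π.app j) Gj) (Red.bc (c.π.app j) Xj))) ∧
        ∃ (Z : Scheme.{u}) (v : Z ⟶ c.pt) (w : Z ⟶ (Red.bc (c.π.app j) Xj).left), w ≫ (Red.bc (c.π.app j) Xj).hom = v ∧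
          Flat v ∧ Surjective v ∧ LocallyOfFinitePresentation v ∧ QuasiCompact v ∧ QuasiSeparated v) ↔
    ∃ (i : I) (f : i ⟶ j), (IsIso (lift (Functor.LaxMonoidal.μ (Over.pullback (D.map f)) Gj Xj ≫ (Over.pullback (D.map f)).map act.act) (snd (Red.bc (D.map f) Gj) (Red.bc (D.map f) Xj))) ∧
        ∃ (Z : Scheme.{u}) (v : Z ⟶ (D.obj i)) (w : Z ⟶ (Red.bc (D.map f) Xj).left), w ≫ (Red.bc (D.map f) Xj).hom = v ∧
          Flat v ∧ Surjective v ∧ LocallyOfFinitePresentation v ∧ QuasiCompact v ∧ QuasiSeparated v) := by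
  obtain ⟨_, _, _⟩ := fp_tensor Gj Xj
  obtain ⟨_, _, _⟩ := fp_tensor Xj Xj
  constructor
  · rintro ⟨hiso, hcov⟩
    have hcov' : Cov (c.π.app j) Xj := hcov
    have hiso' : IsIso ((Over.pullback (c.π.app j)).map (lift act.act (snd Gj Xj))) :=
      (isIso_lift_iff (Over.pullback (c.π.app j)) act.act).mp hiso
    have s1 := exists_isIso_map D c hc j (lift act.act (snd Gj Xj))
    have s2 := exists_cov D c hc j Xj hcov'
    obtain ⟨i, b, h1, h2⟩ := exists_and_stage (stable_isIso D (lift act.act (snd Gj Xj)))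
      (stable_cov D Xj) s1 s2
    exact ⟨i, b, (isIso_lift_iff (Over.pullback (D.map b)) act.act).mpr h1, h2⟩
  · rintro ⟨i, f, hiso, hcov⟩
    have hcov' : Cov (D.map f) Xj := hcov
    have hiso' : IsIso ((Over.pullback (D.map f)).map (lift act.act (snd Gj Xj))) :=
      (isIso_lift_iff (Over.pullback (D.map f)) act.act).mp hiso
    exact ⟨(isIso_lift_iff (Over.pullback (c.π.app j)) act.act).mpr
      (isIso_map_congr (lift act.act (snd Gj Xj)) (c.w f)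
        (isIso_map_comp (D.map f) (c.π.app i) (lift act.act (snd Gj Xj)))),
      cov_congr (c.w f) (cov_comp (D.map f) (c.π.app i) Xj hcov')⟩

end Groth.Agent.Lib.Helper28.SubGrp
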