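import Mathlib
import Groth.Prelude.Def_Red
import Groth.Agent.Lib.Helper9.FppfSource
import Groth.Agent.Lib.Helper1.FpqcDescent
import Groth.Agent.Lib.Helper12.StratQBC
import Groth.Agent.Lib.Helper12.StratTower
import Groth.Agent.Lib.Helper28.SubGrp.Spread
import Groth.Agent.Lib.Helper28.SubGrp.Torsor

/-!
# Representability of a quotient by a flat equivalence relation over a cofiltered limit
-/

set_option autoImplicit false
universe u

namespace Groth.Agent.Lib.Helper28.SubGrp

open CategoryTheory CategoryTheory.Limits AlgebraicGeometry MonoidalCategory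
  CartesianMonoidalCategory
open Groth.Agent.Lib.Helper18 Groth.Agent.Lib.Helper12 Groth.Agent.Lib.Helper9

section Good

variable {S : Scheme.{u}}

/-- `p` is an fppf quotient map for the pair `s, t` -/
def Good {R X Y : Over S} (s t : R ⟶ X) (p : X ⟶ Y) : Prop :=
  Flat p.left ∧ Surjective p.left ∧ LocallyOfFinitePresentation p.left ∧ IsPullback s t p p

theorem Good.of_iso {R X Y R' X' Y' : Over S} {s t : R ⟶ X} {p : X ⟶ Y} {s' t' : R' ⟶ X'}
    {p' : X' ⟶ Y'} (eR : R' ≅ R) (eX : X' ≅ X) (eY : Y' ≅ Y)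
    (hs : s' ≫ eX.hom = eR.hom ≫ s) (ht : t' ≫ eX.hom = eR.hom ≫ t)
    (hp : p' ≫ eY.hom = eX.hom ≫ p) (h : Good s t p) : Good s' t' p' := by
  obtain ⟨h1, h2, h3, h4⟩ := h
  have e : p' = eX.hom ≫ p ≫ eY.inv := by
    rw [← Category.assoc, ← hp, Category.assoc, Iso.hom_inv_id, Category.comp_id]
  have el : p'.left = eX.hom.left ≫ p.left ≫ eY.inv.left := by
    rw [e]; rfl
  have i1 : IsIso eX.hom.left := (Over.forget _).map_isIso eX.hom
  have i2 : IsIso eY.inv.left := (Over.forget _).map_isIso eY.inv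
  refine ⟨?_, ?_, ?_, ?_⟩
  · rw [el]; infer_instance
  · rw [el]; infer_instance
  · rw [el]; infer_instance
  · refine IsPullback.of_iso h4 eR.symm eX.symm eX.symm eY.symm ?_ ?_ ?_ ?_
    · rw [Iso.symm_hom, Iso.symm_hom, Iso.comp_inv_eq, Category.assoc, hs, Iso.inv_hom_id_assoc]
    · rw [Iso.symm_hom, Iso.symm_hom, Iso.comp_inv_eq, Category.assoc, ht, Iso.inv_hom_id_assoc]
    · rw [Iso.symm_hom, Iso.symm_hom, e, Iso.inv_hom_id_assoc]
    · rw [Iso.symm_hom, Iso.symm_hom, e, Iso.inv_hom_id_assoc]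

theorem Good.bc {S' : Scheme.{u}} (g : S' ⟶ S) {R X Y : Over S} {s t : R ⟶ X} {p : X ⟶ Y}
    (h : Good s t p) :
    Good ((Over.pullback g).map s) ((Over.pullback g).map t) ((Over.pullback g).map p) := by
  obtain ⟨h1, h2, h3, h4⟩ := h
  exact ⟨map_left_of_stableUnderBaseChange @Flat g p h1,
    map_left_of_stableUnderBaseChange @Surjective g p h2,
    map_left_of_stableUnderBaseChange @LocallyOfFinitePresentation g p h3,
    h4.map (Over.pullback g)⟩

theorem good_comp_iff {S' S'' : Scheme.{u}} (h : S'' ⟶ S') (g : S' ⟶ S) {d : S'' ⟶ S}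
    (hd : h ≫ g = d) {R X Y : Over S} (s t : R ⟶ X) (p : X ⟶ Y) :
    Good ((Over.pullback h).map ((Over.pullback g).map s))
      ((Over.pullback h).map ((Over.pullback g).map t))
      ((Over.pullback h).map ((Over.pullback g).map p)) ↔
    Good ((Over.pullback d).map s) ((Over.pullback d).map t) ((Over.pullback d).map p) := by
  constructor
  · intro H
    exact Good.of_iso (bcCompIso h g hd R).symm (bcCompIso h g hd X).symm (bcCompIso h g hd Y).symm
      (bcCompIso_inv_naturality h g hd s) (bcCompIso_inv_naturality h g hd t)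
      (bcCompIso_inv_naturality h g hd p) H
  · intro H
    exact Good.of_iso (bcCompIso h g hd R) (bcCompIso h g hd X) (bcCompIso h g hd Y)
      (bcCompIso_hom_naturality h g hd s) (bcCompIso_hom_naturality h g hd t)
      (bcCompIso_hom_naturality h g hd p) H

theorem good_congr {S' : Scheme.{u}} {g g' : S' ⟶ S} (e : g = g') {R X Y : Over S}
    (s t : R ⟶ X) (p : X ⟶ Y)
    (H : Good ((Over.pullback g).map s) ((Over.pullback g).map t) ((Over.pullback g).map p)) :
    Good ((Over.pullback g').map s) ((Over.pullback g').map t) ((Over.pullback g').map p) := by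
  subst e
  exact H

/-- the quotient of `X` by `s, t` is representable by an fppf quotient map -/
def Qd {R X : Over S} (s t : R ⟶ X) : Prop := ∃ (Y : Over S) (p : X ⟶ Y), Good s t p

theorem Qd.bc {S' : Scheme.{u}} (g : S' ⟶ S) {R X : Over S} {s t : R ⟶ X} (h : Qd s t) :
    Qd ((Over.pullback g).map s) ((Over.pullback g).map t) := by
  obtain ⟨Y, p, hp⟩ := h
  exact ⟨_, _, hp.bc g⟩

theorem Qd.of_iso {R X R' X' : Over S} {s t : R ⟶ X} {s' t' : R' ⟶ X'}
    (eR : R' ≅ R) (eX : X' ≅ X)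
    (hs : s' ≫ eX.hom = eR.hom ≫ s) (ht : t' ≫ eX.hom = eR.hom ≫ t) (h : Qd s t) :
    Qd s' t' := by
  obtain ⟨Y, p, hp⟩ := h
  exact ⟨Y, eX.hom ≫ p, hp.of_iso eR eX (Iso.refl Y) hs ht (by simp)⟩

theorem qd_comp {S' S'' : Scheme.{u}} (h : S'' ⟶ S') (g : S' ⟶ S) {d : S'' ⟶ S}
    (hd : h ≫ g = d) {R X : Over S} (s t : R ⟶ X)
    (H : Qd ((Over.pullback h).map ((Over.pullback g).map s))
      ((Over.pullback h).map ((Over.pullback g).map t))) :
    Qd ((Over.pullback d).map s) ((Over.pullback d).map t) :=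
  H.of_iso (bcCompIso h g hd R).symm (bcCompIso h g hd X).symm
    (bcCompIso_inv_naturality h g hd s) (bcCompIso_inv_naturality h g hd t)

/-- the quotient of a finitely presented scheme by a flat finitely presented equivalence relation
is finitely presented -/
theorem fp_quot {R X Y : Over S} {s t : R ⟶ X} {p : X ⟶ Y}
    [LocallyOfFinitePresentation X.hom] [QuasiCompact X.hom] [QuasiSeparated X.hom]
    [QuasiCompact R.hom] (h : Good s t p) :
    LocallyOfFinitePresentation Y.hom ∧ QuasiCompact Y.hom ∧ QuasiSeparated Y.hom := by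
  obtain ⟨h1, h2, h3, h4⟩ := h
  have e : p.left ≫ Y.hom = X.hom := Over.w p
  have : LocallyOfFinitePresentation (p.left ≫ Y.hom) := by rw [e]; infer_instance
  have : QuasiCompact (p.left ≫ Y.hom) := by rw [e]; infer_instance
  have : QuasiSeparated (p.left ≫ Y.hom) := by rw [e]; infer_instance
  have hsch : IsPullback s.left t.left p.left p.left := h4.map (Over.forget S)
  have : QuasiCompact (s.left ≫ X.hom) := by rw [Over.w s]; infer_instance
  have hs : QuasiCompact s.left := QuasiCompact.of_comp s.left X.hom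
  have hpqc : QuasiCompact p.left :=
    MorphismProperty.of_isPullback_of_descendsAlong (P := @QuasiCompact)
      (Q := @Surjective ⊓ @Flat ⊓ @LocallyOfFinitePresentation) hsch ⟨⟨h2, h1⟩, h3⟩ hs
  exact ⟨FppfSource.lfp_of_comp p.left Y.hom, FppfSource.quasiCompact_of_comp p.left Y.hom,
    FppfSource.quasiSeparated_of_comp p.left Y.hom⟩

end Good

section Lim

variable {I : Type u} [SmallCategory I] [IsCofiltered I]
  (D : I ⥤ Scheme.{u}) (c : Limits.Cone D) (hc : Limits.IsLimit c)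
  [∀ (i i' : I) (f : i ⟶ i'), IsAffineHom (D.map f)] [∀ i, CompactSpace (D.obj i)]
  [∀ i, QuasiSeparatedSpace (D.obj i)]

omit [IsCofiltered I] [∀ (i i' : I) (f : i ⟶ i'), IsAffineHom (D.map f)]
  [∀ i, CompactSpace (D.obj i)] [∀ i, QuasiSeparatedSpace (D.obj i)] in
theorem stable_prop_map (P : MorphismProperty Scheme.{u}) [P.RespectsIso]
    [P.IsStableUnderBaseChange] {i₀ : I} {T₀ Y₀ : Over (D.obj i₀)} (ψ : T₀ ⟶ Y₀) :
    Stable (fun i' (b : i' ⟶ i₀) => P ((Over.pullback (D.map b)).map ψ).left) := by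
  intro i' i'' b d h
  have h1 : P ((Over.pullback (D.map d)).map ((Over.pullback (D.map b)).map ψ)).left :=
    map_left_of_stableUnderBaseChange P _ _ h
  have nat := bcCompIso_hom_naturality (D.map d) (D.map b) (D.map_comp d b).symm ψ
  have e : (Over.pullback (D.map (d ≫ b))).map ψ =
      (bcCompIso (D.map d) (D.map b) (D.map_comp d b).symm T₀).inv ≫
        (Over.pullback (D.map d)).map ((Over.pullback (D.map b)).map ψ) ≫
          (bcCompIso (D.map d) (D.map b) (D.map_comp d b).symm Y₀).hom := by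
    rw [nat, Iso.inv_hom_id_assoc]
  have i1 : IsIso (bcCompIso (D.map d) (D.map b) (D.map_comp d b).symm T₀).inv.left :=
    (Over.forget _).map_isIso (bcCompIso (D.map d) (D.map b) (D.map_comp d b).symm T₀).inv
  have i2 : IsIso (bcCompIso (D.map d) (D.map b) (D.map_comp d b).symm Y₀).hom.left :=
    (Over.forget _).map_isIso (bcCompIso (D.map d) (D.map b) (D.map_comp d b).symm Y₀).hom
  rw [e, Over.comp_left, Over.comp_left, P.cancel_left_of_respectsIso,
    P.cancel_right_of_respectsIso]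
  exact h1

include hc in
/-- core descent: the quotient map and its target are given at the stage -/
theorem exists_good_stage (i₀ : I) {R₀ X₀ Y₀ : Over (D.obj i₀)} (s₀ t₀ : R₀ ⟶ X₀) (p₀ : X₀ ⟶ Y₀)
    [LocallyOfFinitePresentation X₀.hom] [QuasiCompact X₀.hom] [QuasiSeparated X₀.hom]
    [LocallyOfFinitePresentation R₀.hom] [QuasiCompact R₀.hom] [QuasiSeparated R₀.hom]
    [LocallyOfFinitePresentation Y₀.hom] [QuasiCompact Y₀.hom] [QuasiSeparated Y₀.hom]
    (w₀ : s₀ ≫ p₀ = t₀ ≫ p₀)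
    (H : Good ((Over.pullback (c.π.app i₀)).map s₀) ((Over.pullback (c.π.app i₀)).map t₀)
      ((Over.pullback (c.π.app i₀)).map p₀)) :
    ∃ (i : I) (a : i ⟶ i₀), Good ((Over.pullback (D.map a)).map s₀)
      ((Over.pullback (D.map a)).map t₀) ((Over.pullback (D.map a)).map p₀) := by
  obtain ⟨h1, h2, h3, h4⟩ := H
  have e : p₀.left ≫ Y₀.hom = X₀.hom := Over.w p₀
  have : LocallyOfFinitePresentation (p₀.left ≫ Y₀.hom) := by rw [e]; infer_instance
  have hlfp : LocallyOfFinitePresentation p₀.left :=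
    locallyOfFinitePresentation_of_comp p₀.left Y₀.hom
  -- the comparison morphism
  let κ : R₀ ⟶ pullback p₀ p₀ := pullback.lift s₀ t₀ w₀
  have hκ₁ : κ ≫ pullback.fst p₀ p₀ = s₀ := pullback.lift_fst _ _ _
  have hκ₂ : κ ≫ pullback.snd p₀ p₀ = t₀ := pullback.lift_snd _ _ _
  have hP : IsPullback (pullback.fst p₀ p₀) (pullback.snd p₀ p₀) p₀ p₀ :=
    IsPullback.of_hasPullback p₀ p₀
  have hPc := hP.map (Over.pullback (c.π.app i₀))
  have hiso : IsIso ((Over.pullback (c.π.app i₀)).map κ) := by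
    have e1 : (Over.pullback (c.π.app i₀)).map κ = (h4.isoIsPullback _ _ hPc).hom := by
      apply hPc.hom_ext
      · rw [IsPullback.isoIsPullback_hom_fst, ← Functor.map_comp, hκ₁]
      · rw [IsPullback.isoIsPullback_hom_snd, ← Functor.map_comp, hκ₂]
    rw [e1]
    infer_instance
  -- finite presentation of the fibre product
  have hPl : IsPullback (pullback.fst p₀ p₀).left (pullback.snd p₀ p₀).left p₀.left p₀.left :=
    hP.map (Over.forget _)
  have e2 : (pullback.fst p₀ p₀).left ≫ X₀.hom = (pullback p₀ p₀).hom := Over.w _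
  have : LocallyOfFinitePresentation (pullback.fst p₀ p₀).left :=
    MorphismProperty.of_isPullback (P := @LocallyOfFinitePresentation) hPl.flip hlfp
  have hq1 : LocallyOfFinitePresentation (pullback p₀ p₀).hom := by rw [← e2]; infer_instance
  have hq2 : LocallyOfFiniteType (pullback p₀ p₀).hom := inferInstance
  have : QuasiCompact p₀.left := by
    have : QuasiCompact (p₀.left ≫ Y₀.hom) := by rw [e]; infer_instance
    exact QuasiCompact.of_comp p₀.left Y₀.hom
  have : QuasiSeparated p₀.left := by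
    have : QuasiSeparated (p₀.left ≫ Y₀.hom) := by rw [e]; infer_instance
    exact QuasiSeparated.of_comp p₀.left Y₀.hom
  have : QuasiCompact (pullback.fst p₀ p₀).left :=
    MorphismProperty.of_isPullback (P := @QuasiCompact) hPl.flip inferInstance
  have : QuasiSeparated (pullback.fst p₀ p₀).left :=
    MorphismProperty.of_isPullback (P := @QuasiSeparated) hPl.flip inferInstance
  have hq3 : QuasiCompact (pullback p₀ p₀).hom := by rw [← e2]; infer_instance
  have hq4 : QuasiSeparated (pullback p₀ p₀).hom := by rw [← e2]; infer_instance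
  have s1 := exists_isIso_map D c hc i₀ κ
  have s2 := exists_prop_map D c hc i₀ p₀ @Flat StratQBC.descendsLim_flat h1
  have s3 := exists_prop_map D c hc i₀ p₀ @Surjective StratTower.descendsLim_surjective h2
  have t12 := exists_and_stage (stable_isIso D κ) (stable_prop_map D @Flat p₀) s1 s2
  obtain ⟨i, a, ⟨hi, hf⟩, hsu⟩ := exists_and_stage
    (Stable.and (stable_isIso D κ) (stable_prop_map D @Flat p₀))
    (stable_prop_map D @Surjective p₀) t12 s3
  refine ⟨i, a, hf, hsu, map_left_of_stableUnderBaseChange @LocallyOfFinitePresentation _ _ hlfp,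
    ?_⟩
  have hPa := hP.map (Over.pullback (D.map a))
  refine IsPullback.of_iso hPa (asIso ((Over.pullback (D.map a)).map κ)).symm (Iso.refl _)
    (Iso.refl _) (Iso.refl _) ?_ ?_ (by simp) (by simp)
  · rw [Iso.refl_hom, Category.comp_id, Iso.symm_hom, asIso_inv, IsIso.eq_inv_comp,
      ← Functor.map_comp, hκ₁]
  · rw [Iso.refl_hom, Category.comp_id, Iso.symm_hom, asIso_inv, IsIso.eq_inv_comp,
      ← Functor.map_comp, hκ₂]

include hc in
/-- **Descent of representability of the quotient** to a stage. -/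
theorem exists_qd_stage (i₀ : I) {R₀ X₀ : Over (D.obj i₀)} (s₀ t₀ : R₀ ⟶ X₀)
    [LocallyOfFinitePresentation X₀.hom] [QuasiCompact X₀.hom] [QuasiSeparated X₀.hom]
    [LocallyOfFinitePresentation R₀.hom] [QuasiCompact R₀.hom] [QuasiSeparated R₀.hom]
    (H : Qd ((Over.pullback (c.π.app i₀)).map s₀) ((Over.pullback (c.π.app i₀)).map t₀)) :
    ∃ (i : I) (a : i ⟶ i₀),
      Qd ((Over.pullback (D.map a)).map s₀) ((Over.pullback (D.map a)).map t₀) := by
  obtain ⟨Y, p, hp⟩ := H
  obtain ⟨_, _, _⟩ := fp_bc (c.π.app i₀) X₀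
  obtain ⟨_, _, _⟩ := fp_bc (c.π.app i₀) R₀
  obtain ⟨hY1, hY2, hY3⟩ := fp_quot hp
  obtain ⟨M⟩ := exists_model D c hc Y
  -- a common stage
  obtain ⟨i₁, a, a', -⟩ : ∃ (i₁ : I) (a : i₁ ⟶ i₀) (a' : i₁ ⟶ M.i), True :=
    ⟨IsCofiltered.min i₀ M.i, IsCofiltered.minToLeft i₀ M.i, IsCofiltered.minToRight i₀ M.i,
      trivial⟩
  obtain ⟨_, _, _⟩ := fp_bc (D.map a') M.G₀
  obtain ⟨_, _, _⟩ := fp_bc (D.map a) X₀
  obtain ⟨_, _, _⟩ := fp_bc (D.map a) R₀
  obtain ⟨e', he'⟩ : ∃ e' : Y ≅ (Over.pullback (c.π.app i₁)).obj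
      ((Over.pullback (D.map a')).obj M.G₀),
      e' = M.e ≪≫ (bcCompIso (c.π.app i₁) (D.map a') (c.w a') M.G₀).symm := ⟨_, rfl⟩
  obtain ⟨p₁, hp₁⟩ : ∃ p₁ : (Over.pullback (c.π.app i₁)).obj ((Over.pullback (D.map a)).obj X₀) ⟶
      (Over.pullback (c.π.app i₁)).obj ((Over.pullback (D.map a')).obj M.G₀),
      p₁ = (bcCompIso (c.π.app i₁) (D.map a) (c.w a) X₀).hom ≫ p ≫ e'.hom := ⟨_, rfl⟩
  obtain ⟨i₂, b, p₂, hp₂⟩ := exists_hom_descent D c hc i₁ ((Over.pullback (D.map a)).obj X₀)
    ((Over.pullback (D.map a')).obj M.G₀) p₁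
  obtain ⟨_, _, _⟩ := fp_bc (D.map b) ((Over.pullback (D.map a)).obj X₀)
  obtain ⟨_, _, _⟩ := fp_bc (D.map b) ((Over.pullback (D.map a)).obj R₀)
  obtain ⟨_, _, _⟩ := fp_bc (D.map b) ((Over.pullback (D.map a')).obj M.G₀)
  -- the data at stage `i₂`
  have H₂ : Good
      ((Over.pullback (c.π.app i₂)).map
        ((Over.pullback (D.map b)).map ((Over.pullback (D.map a)).map s₀)))
      ((Over.pullback (c.π.app i₂)).map
        ((Over.pullback (D.map b)).map ((Over.pullback (D.map a)).map t₀)))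
      ((Over.pullback (c.π.app i₂)).map p₂) := by
    refine Good.of_iso
      (bcCompIso (c.π.app i₂) (D.map b) (c.w b) ((Over.pullback (D.map a)).obj R₀) ≪≫
        bcCompIso (c.π.app i₁) (D.map a) (c.w a) R₀)
      (bcCompIso (c.π.app i₂) (D.map b) (c.w b) ((Over.pullback (D.map a)).obj X₀) ≪≫
        bcCompIso (c.π.app i₁) (D.map a) (c.w a) X₀)
      (bcCompIso (c.π.app i₂) (D.map b) (c.w b) ((Over.pullback (D.map a')).obj M.G₀) ≪≫
        e'.symm) ?_ ?_ ?_ hp
    · rw [Iso.trans_hom, Iso.trans_hom, bcCompIso_hom_naturality_assoc,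
        bcCompIso_hom_naturality, Category.assoc]
    · rw [Iso.trans_hom, Iso.trans_hom, bcCompIso_hom_naturality_assoc,
        bcCompIso_hom_naturality, Category.assoc]
    · rw [hp₂, hp₁]
      simp only [Iso.trans_hom, Iso.symm_hom, Category.assoc, Iso.inv_hom_id_assoc,
        Iso.hom_inv_id, Category.comp_id]
  have hw : (Over.pullback (c.π.app i₂)).map
      ((Over.pullback (D.map b)).map ((Over.pullback (D.map a)).map s₀) ≫ p₂) =
      (Over.pullback (c.π.app i₂)).map
        ((Over.pullback (D.map b)).map ((Over.pullback (D.map a)).map t₀) ≫ p₂) := by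
    rw [Functor.map_comp, Functor.map_comp]
    exact H₂.2.2.2.w
  obtain ⟨i₃, d, hd⟩ := exists_map_eq D c hc i₂ _ _ hw
  obtain ⟨_, _, _⟩ := fp_bc (D.map d)
    ((Over.pullback (D.map b)).obj ((Over.pullback (D.map a)).obj X₀))
  obtain ⟨_, _, _⟩ := fp_bc (D.map d)
    ((Over.pullback (D.map b)).obj ((Over.pullback (D.map a)).obj R₀))
  obtain ⟨_, _, _⟩ := fp_bc (D.map d)
    ((Over.pullback (D.map b)).obj ((Over.pullback (D.map a')).obj M.G₀))
  rw [Functor.map_comp, Functor.map_comp] at hd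
  have H₃ := (good_comp_iff (c.π.app i₃) (D.map d) (c.w d)
    ((Over.pullback (D.map b)).map ((Over.pullback (D.map a)).map s₀))
    ((Over.pullback (D.map b)).map ((Over.pullback (D.map a)).map t₀)) p₂).mpr H₂
  obtain ⟨i₄, e₄, H₄⟩ := exists_good_stage D c hc i₃ _ _ _ hd H₃
  refine ⟨i₄, ((e₄ ≫ d) ≫ b) ≫ a, ?_⟩
  have q4 : Qd ((Over.pullback (D.map e₄)).map ((Over.pullback (D.map d)).map
      ((Over.pullback (D.map b)).map ((Over.pullback (D.map a)).map s₀))))
      ((Over.pullback (D.map e₄)).map ((Over.pullback (D.map d)).map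
      ((Over.pullback (D.map b)).map ((Over.pullback (D.map a)).map t₀)))) := ⟨_, _, H₄⟩
  have q3 := qd_comp (D.map e₄) (D.map d) (D.map_comp e₄ d).symm _ _ q4
  have q2 := qd_comp (D.map (e₄ ≫ d)) (D.map b) (D.map_comp (e₄ ≫ d) b).symm _ _ q3
  exact qd_comp (D.map ((e₄ ≫ d) ≫ b)) (D.map a) (D.map_comp ((e₄ ≫ d) ≫ b) a).symm _ _ q2

include hc in
/-- **Representability of the quotient over the limit iff at a stage.** -/
theorem main_quot (j : I) {Rj Xj : Over (D.obj j)} (sj tj : Rj ⟶ Xj)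
    [LocallyOfFinitePresentation Xj.hom] [QuasiCompact Xj.hom] [QuasiSeparated Xj.hom]
    [LocallyOfFinitePresentation Rj.hom] [QuasiCompact Rj.hom] [QuasiSeparated Rj.hom] :
    Qd ((Over.pullback (c.π.app j)).map sj) ((Over.pullback (c.π.app j)).map tj) ↔
      ∃ (i : I) (f : i ⟶ j),
        Qd ((Over.pullback (D.map f)).map sj) ((Over.pullback (D.map f)).map tj) :=
  ⟨exists_qd_stage D c hc j sj tj,
    fun ⟨i, f, h⟩ => qd_comp (c.π.app i) (D.map f) (c.w f) sj tj (h.bc (c.π.app i))⟩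

end Lim

end Groth.Agent.Lib.Helper28.SubGrp
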