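import Mathlib
import Groth.Prelude.Def_Red
import Groth.Agent.Lib.Helper28.SubGrp.QuotDesc
import Groth.Agent.Lib.Helper28.SubGrp.GrpDesc

/-!
# Representability of a quotient `G/G'` over a cofiltered limit
-/

set_option autoImplicit false
universe u

namespace Groth.Agent.Lib.Helper28.SubGrp

open CategoryTheory CategoryTheory.Limits AlgebraicGeometry MonoidalCategory
  CartesianMonoidalCategory MonObj GrpObj

section One

variable {S S' : Scheme.{u}} (g : S' ⟶ S) {G G' : Over S} [GrpObj G] (u : G' ⟶ G)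

theorem grp_s_eq :
    (((Red.bc g G) ◁ ((Over.pullback g).map u)) ≫ μ[(Red.bc g G)]) =
      (Functor.Monoidal.μIso (Over.pullback g) G G').hom ≫
        (Over.pullback g).map ((G ◁ u) ≫ μ[G]) := by
  rw [Functor.map_comp, Functor.Monoidal.μIso_hom, ← Category.assoc,
    ← Functor.LaxMonoidal.μ_natural_right, Category.assoc]
  rfl

theorem grp_t_eq :
    fst (Red.bc g G) (Red.bc g G') =
      (Functor.Monoidal.μIso (Over.pullback g) G G').hom ≫
        (Over.pullback g).map (fst G G') := by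
  rw [Functor.Monoidal.μIso_hom, Functor.Monoidal.μ_fst]

theorem qd_grp_iff :
    Qd (((Red.bc g G) ◁ ((Over.pullback g).map u)) ≫ μ[(Red.bc g G)])
        (fst (Red.bc g G) (Red.bc g G')) ↔
      Qd ((Over.pullback g).map ((G ◁ u) ≫ μ[G])) ((Over.pullback g).map (fst G G')) := by
  constructor
  · intro h
    refine h.of_iso (Functor.Monoidal.μIso (Over.pullback g) G G').symm (Iso.refl _) ?_ ?_
    · rw [Iso.refl_hom, Category.comp_id, Iso.symm_hom, grp_s_eq, Iso.inv_hom_id_assoc]
    · rw [Iso.refl_hom, Category.comp_id, Iso.symm_hom, grp_t_eq, Iso.inv_hom_id_assoc]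
  · intro h
    refine h.of_iso (Functor.Monoidal.μIso (Over.pullback g) G G') (Iso.refl _) ?_ ?_
    · rw [Iso.refl_hom, Category.comp_id, grp_s_eq]
    · rw [Iso.refl_hom, Category.comp_id, grp_t_eq]

end One

section Lim

variable {I : Type u} [SmallCategory I] [IsCofiltered I]
  (D : I ⥤ Scheme.{u}) (c : Limits.Cone D) (hc : Limits.IsLimit c)
  [∀ (i i' : I) (f : i ⟶ i'), IsAffineHom (D.map f)] [∀ i, CompactSpace (D.obj i)]
  [∀ i, QuasiSeparatedSpace (D.obj i)]

include hc in
/-- **Representability of `G/G'` over the limit iff at a stage.** -/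
theorem main_quot_grp (j : I) (Gj G'j : Over (D.obj j)) [GrpObj Gj]
    [LocallyOfFinitePresentation Gj.hom] [QuasiCompact Gj.hom] [QuasiSeparated Gj.hom]
    [LocallyOfFinitePresentation G'j.hom] [QuasiCompact G'j.hom] [QuasiSeparated G'j.hom]
    (uj : G'j ⟶ Gj) :
    Qd (((Red.bc (c.π.app j) Gj) ◁ ((Over.pullback (c.π.app j)).map uj)) ≫
          μ[(Red.bc (c.π.app j) Gj)])
        (fst (Red.bc (c.π.app j) Gj) (Red.bc (c.π.app j) G'j)) ↔
      ∃ (i : I) (f : i ⟶ j),
        Qd (((Red.bc (D.map f) Gj) ◁ ((Over.pullback (D.map f)).map uj)) ≫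
            μ[(Red.bc (D.map f) Gj)])
          (fst (Red.bc (D.map f) Gj) (Red.bc (D.map f) G'j)) := by
  obtain ⟨h1, h2, h3⟩ := fp_tensor Gj G'j
  rw [qd_grp_iff, main_quot D c hc j ((Gj ◁ uj) ≫ μ[Gj]) (fst Gj G'j)]
  simp only [qd_grp_iff]

end Lim

end Groth.Agent.Lib.Helper28.SubGrp
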